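import Groth.Agent.Lib.KoszulSh.Divisor.Basic

/-!
# Koszul complexes of sums of invertible ideals after twisting by a divisor
-/

set_option autoImplicit false
set_option linter.style.haveILetI false
universe u

open CategoryTheory CategoryTheory.Limits AlgebraicGeometry Opposite TopologicalSpace

namespace Groth.Agent.Lib.KoszulSh.Divisor

open Groth.Agent.Lib Modules.TensorGen Pinch.StalkFrame Modules.LocalSections
open Groth.Agent.Lib.TensorMod.Dual (rs rf rs_smul rs_rs rf_rf rs_self rf_self)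
open Groth.Agent.Lib.TensorMod.Gen (IsGen one)
open Groth.Agent.Lib.Modules.TensorSec (app_rs)

variable {X : Scheme.{u}} {n : ℕ}

theorem exists_basis {M : X.Modules} {U : X.Opens} {e : Fin n → Γ(M, U)} (he : IsFrame M U e) :
    ∃ B : Module.Basis (Fin n) Γ(X, U) Γ(M, U), ⇑B = e := by
  have hid : ∀ c : Fin n → Γ(X, U), comb e le_rfl c = ∑ i, c i • e i := fun c =>
    Finset.sum_congr rfl fun i _ => congrArg (c i • ·) (rs_self M le_rfl (e i))
  have hli : LinearIndependent Γ(X, U) e :=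
    Fintype.linearIndependent_iff.2 fun c hc => congrFun (comb_injective he le_rfl
      (a₁ := c) (a₂ := 0) (by rw [hid, hid, hc]; simp))
  have hsp : ⊤ ≤ Submodule.span Γ(X, U) (Set.range e) := fun v _ => by
    obtain ⟨c, rfl⟩ := comb_surjective he le_rfl v
    rw [hid]
    exact Submodule.sum_mem _ fun i _ => Submodule.smul_mem _ _ (Submodule.subset_span ⟨i, rfl⟩)
  exact ⟨Module.Basis.mk hli hsp, Module.Basis.coe_mk hli hsp⟩

variable (IY : Fin n → X.IdealSheafData) (ID : X.IdealSheafData)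

/-- `⊕ I_i`. -/
noncomputable abbrev E : X.Modules := ∐ fun i => _root_.ClSub.idealMod (IY i)

/-- `⊕ I_i → O`. -/
noncomputable abbrev s : E IY ⟶ Coh.structureModule X :=
  Limits.Sigma.desc fun i => _root_.ClSub.idealModι (IY i)

/-- `⊕ I_i I_D`. -/
noncomputable abbrev E' : X.Modules := ∐ fun i => _root_.ClSub.idealMod (IY i * ID)

/-- `⊕ I_i I_D → O`. -/
noncomputable abbrev s' : E' IY ID ⟶ Coh.structureModule X :=
  Limits.Sigma.desc fun i => _root_.ClSub.idealModι (IY i * ID)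

/-- `⊕ I_i I_D → ⊕ I_i`. -/
noncomputable def jmap : E' IY ID ⟶ E IY :=
  Limits.Sigma.desc fun i => incl (IY i) ID ≫ Limits.Sigma.ι (fun i => _root_.ClSub.idealMod (IY i)) i

theorem jmap_s : jmap IY ID ≫ s IY = s' IY ID :=
  Limits.Sigma.hom_ext _ _ fun i => by simp [jmap, incl_ι]

/-- An affine open with equations of all the divisors. -/
structure Chart where
  /-- The open. -/
  U : X.affineOpens
  /-- The equation of `D`. -/
  x : Eqn ID U
  /-- The equations of the `Y_i`. -/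
  y : ∀ i, Eqn (IY i) U

variable {IY ID}

/-- Restrict a chart. -/
noncomputable def Chart.res (c : Chart IY ID) (W : X.affineOpens) (h : W.1 ≤ c.U.1) : Chart IY ID :=
  ⟨W, c.x.res W h, fun i => (c.y i).res W h⟩

theorem Chart.exists_res (c : Chart IY ID) {V : X.Opens} {p : X} (hp : p ∈ V) (hV : V ≤ c.U.1) :
    ∃ c' : Chart IY ID, p ∈ c'.U.1 ∧ c'.U.1 ≤ V ∧ ∃ h : c'.U.1 ≤ c.U.1, c'.x.f = rf h c.x.f := by
  obtain ⟨W, hW, hpW⟩ := Modules.AffineHom.exists_affine hp
  exact ⟨c.res W (hW.trans hV), hpW, hW, hW.trans hV, rfl⟩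

theorem exists_chart (hY : ∀ i, BlowUp.IsEffCartierIdeal (IY i)) (hD : BlowUp.IsEffCartierIdeal ID)
    {V : X.Opens} {p : X} (hp : p ∈ V) : ∃ c : Chart IY ID, p ∈ c.U.1 ∧ c.U.1 ≤ V := by
  choose U q hq using fun i => exists_eqn (hY i) p
  obtain ⟨U₀, q₀, hq₀⟩ := exists_eqn hD p
  let O : X.Opens := ⟨⋂ i, ((U i).1 : Set X), isOpen_iInter_of_finite fun i => (U i).1.2⟩
  have hpO : p ∈ (V ⊓ U₀.1) ⊓ O := ⟨⟨hp, hq₀⟩, Set.mem_iInter.2 hq⟩
  obtain ⟨W, hW, hpW⟩ := Modules.AffineHom.exists_affine hpO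
  refine ⟨⟨W, q₀.res W (hW.trans (inf_le_left.trans inf_le_right)), fun i => (q i).res W ?_⟩, hpW,
    hW.trans (inf_le_left.trans inf_le_left)⟩
  exact fun y hy => Set.mem_iInter.1 (hW hy).2 i

variable (c : Chart IY ID)

theorem Chart.exists_bases : ∃ (B : Module.Basis (Fin n) Γ(X, c.U.1) Γ(E IY, c.U.1))
    (T : Γ(E IY, c.U.1) ≃ₗ[Γ(X, c.U.1)] Γ(E' IY ID, c.U.1)),
    ∀ v, (jmap IY ID).app c.U.1 (T v) = c.x.f • v := by
  obtain ⟨B, hB⟩ := exists_basis (isFrame_sigma _ (fun i => (c.y i).sec) fun i => (c.y i).isGen)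
  obtain ⟨B', hB'⟩ := exists_basis (isFrame_sigma _ (fun i => ((c.y i).mul c.x).sec)
    fun i => ((c.y i).mul c.x).isGen)
  refine ⟨B, B.equiv B' (Equiv.refl _), fun v => ?_⟩
  let φ : Γ(E' IY ID, c.U.1) →ₗ[Γ(X, c.U.1)] Γ(E IY, c.U.1) :=
    { toFun := (jmap IY ID).app c.U.1, map_add' := map_add _,
      map_smul' := fun r v => Scheme.Modules.Hom.app_smul _ r v }
  have h : φ ∘ₗ (B.equiv B' (Equiv.refl _)).toLinearMap = c.x.f • LinearMap.id := by
    refine B.ext fun i => ?_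
    show (jmap IY ID).app c.U.1 (B.equiv B' (Equiv.refl _) (B i)) = c.x.f • B i
    rw [Module.Basis.equiv_apply, Equiv.refl_apply, hB, hB']
    refine (congr(($(Limits.Sigma.ι_desc (fun i => incl (IY i) ID ≫
      Limits.Sigma.ι (fun i => _root_.ClSub.idealMod (IY i)) i) i)).app c.U.1 ((c.y i).mul c.x).sec)).trans ?_
    show (Limits.Sigma.ι (fun i => _root_.ClSub.idealMod (IY i)) i).app c.U.1
      ((incl (IY i) ID).app c.U.1 ((c.y i).mul c.x).sec) = _
    rw [incl_sec, Scheme.Modules.Hom.app_smul]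
  exact LinearMap.congr_fun h v

variable (C : KoszSh.Cx (E IY) (s IY)) (C' : KoszSh.Cx (E' IY ID) (s' IY ID))

/-- The map of complexes induced by `jmap`. -/
noncomputable def Φ : C'.K ⟶ C.K :=
  (Functorial.existsUnique_chainMap C' C (jmap IY ID) (jmap_s IY ID)).choose

theorem isMap_Φ (p : ℕ) : Functorial.IsMap C' C (jmap IY ID) p ((Φ C C').f p) :=
  (Functorial.existsUnique_chainMap C' C (jmap IY ID) (jmap_s IY ID)).choose_spec.1 p

theorem Chart.pow_smul_injective (p k : ℕ) {u : Γ(C.K.X p, c.U.1)} (h : c.x.f ^ k • u = 0) : u = 0 := by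
  obtain ⟨B, -, -⟩ := c.exists_bases
  let P := B.exteriorPower p
  apply (C.loc p c.U).injective
  rw [map_zero]
  apply P.repr.injective
  rw [map_zero]
  ext i
  refine (mem_nonZeroDivisors_iff.1 (pow_mem c.x.nzd k)).1 _ ?_
  have := congrArg (fun v => P.repr v i) (congrArg (C.loc p c.U) h)
  simpa using this

/-- `Φ` is multiplication by `x ^ p` in a chart. -/
theorem Chart.exists_Φ_eq (p : ℕ) (u : Γ(C.K.X p, c.U.1)) :
    ∃ u' : Γ(C'.K.X p, c.U.1), ((Φ C C').f p).app c.U.1 u' = c.x.f ^ p • u := by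
  obtain ⟨B, T, hT⟩ := c.exists_bases
  refine Functorial.loc_induction C c.U (P := fun u => ∃ u' : Γ(C'.K.X p, c.U.1),
    ((Φ C C').f p).app c.U.1 u' = c.x.f ^ p • u) ⟨0, ?_⟩ ?_ ?_ ?_ u
  · rw [map_zero, smul_zero]
  · rintro a b ⟨a', ha⟩ ⟨b', hb⟩
    exact ⟨a' + b', by rw [map_add, ha, hb, smul_add]⟩
  · rintro r a ⟨a', ha⟩
    exact ⟨r • a', by rw [Scheme.Modules.Hom.app_smul, ha, smul_comm]⟩
  · intro e
    refine ⟨(C'.loc p c.U).symm (exteriorPower.ιMulti _ p fun k => T (e k)), ?_⟩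
    rw [isMap_Φ C C' p c.U, ← map_smul]
    refine congrArg _ ?_
    simp only [hT]
    rw [AlternatingMap.map_smul_univ, Finset.prod_const, Finset.card_univ, Fintype.card_fin]

theorem Chart.Φ_injective (p : ℕ) {u' : Γ(C'.K.X p, c.U.1)} (h : ((Φ C C').f p).app c.U.1 u' = 0) : u' = 0 := by
  obtain ⟨B, T, hT⟩ := c.exists_bases
  let φ : Γ(C'.K.X p, c.U.1) →ₗ[Γ(X, c.U.1)] Γ(C.K.X p, c.U.1) :=
    { toFun := ((Φ C C').f p).app c.U.1, map_add' := map_add _,
      map_smul' := fun r v => Scheme.Modules.Hom.app_smul _ r v }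
  have hk : φ ∘ₗ (C'.loc p c.U).symm.toLinearMap ∘ₗ exteriorPower.map p T.toLinearMap =
      c.x.f ^ p • (C.loc p c.U).symm.toLinearMap := by
    refine exteriorPower.linearMap_ext ?_
    ext e
    simp only [LinearMap.compAlternatingMap_apply, LinearMap.comp_apply, exteriorPower.map_apply_ιMulti,
      LinearMap.smul_apply, LinearEquiv.coe_coe]
    show ((Φ C C').f p).app c.U.1 _ = _
    rw [isMap_Φ C C' p c.U, ← map_smul]
    refine congrArg _ ?_
    simp only [Function.comp_apply, LinearEquiv.coe_coe, hT]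
    rw [AlternatingMap.map_smul_univ, Finset.prod_const, Finset.card_univ, Fintype.card_fin]
  obtain ⟨w, hw⟩ := Twist.map_surjective_of_equiv T p (C'.loc p c.U u')
  have h2 := LinearMap.congr_fun hk w
  simp only [LinearMap.comp_apply, LinearEquiv.coe_coe, hw, LinearEquiv.symm_apply_apply,
    LinearMap.smul_apply] at h2
  have h3 : w = 0 := (C.loc p c.U).symm.map_eq_zero_iff.1 (c.pow_smul_injective C p p (h2.symm.trans h))
  rw [← LinearEquiv.map_eq_zero_iff (C'.loc p c.U), ← hw, h3, map_zero]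

theorem mono_Φ (hY : ∀ i, BlowUp.IsEffCartierIdeal (IY i)) (hD : BlowUp.IsEffCartierIdeal ID) (p : ℕ) :
    Mono ((Φ C C').f p) :=
  mono_of_local fun U m hm q hq => by
    obtain ⟨c, hqc, hcU⟩ := exists_chart hY hD hq
    exact ⟨c.U.1, hcU, hqc, c.Φ_injective C C' p (by rw [app_rs, hm]; exact map_zero _)⟩

end Groth.Agent.Lib.KoszulSh.Divisor
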