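import Groth.Agent.Lib.KoszulSh.Twist
import Groth.Agent.Lib.ClSub.Cartier
import Groth.Agent.Lib.Modules.LocalSections
import Groth.Agent.Lib.Pinch.FrameSpread

/-!
# Generators of ideal modules, sums of invertible ideals, powers of the inclusion of a divisor
-/

set_option autoImplicit false
set_option linter.style.haveILetI false
universe u

open CategoryTheory CategoryTheory.Limits AlgebraicGeometry Opposite TopologicalSpace

namespace Groth.Agent.Lib.KoszulSh.Divisor

open Groth.Agent.Lib Modules.TensorGen Pinch.StalkFrame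
open Groth.Agent.Lib.TensorMod.Dual (rs rf rs_smul rs_rs rf_rf rs_self rf_self)
open Groth.Agent.Lib.TensorMod.Gen (IsGen one)

variable {X : Scheme.{u}}

/-- A generator of an invertible ideal on an affine open. -/
structure Eqn (I : X.IdealSheafData) (U : X.affineOpens) where
  /-- The equation. -/
  f : Γ(X, U.1)
  nzd : f ∈ nonZeroDivisors Γ(X, U.1)
  span : I.ideal U = Ideal.span {f}

variable {I J : X.IdealSheafData} {U : X.affineOpens}

/-- Restrict an equation. -/
noncomputable def Eqn.res (q : Eqn I U) (W : X.affineOpens) (h : W.1 ≤ U.1) : Eqn I W where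
  f := rf h q.f
  nzd := ClSub.Cartier.map_mem_nonZeroDivisors h q.nzd
  span := by
    rw [← I.map_ideal (U := W) (V := U) h, q.span, Ideal.map_span, Set.image_singleton]
    rfl

/-- Multiply equations. -/
noncomputable def Eqn.mul (q : Eqn I U) (r : Eqn J U) : Eqn (I * J) U where
  f := q.f * r.f
  nzd := mul_mem q.nzd r.nzd
  span := by
    rw [Scheme.IdealSheafData.ideal_mul, Pi.mul_apply, q.span, r.span, Ideal.span_singleton_mul_span_singleton]

/-- The section of the ideal module given by the equation. -/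
noncomputable def Eqn.sec (q : Eqn I U) : Γ(_root_.ClSub.idealMod I, U.1) :=
  ((ClSub.Sections.mem_range_idealModι_app_affine_iff I U q.f).mpr
    (q.span ▸ Ideal.mem_span_singleton_self q.f)).choose

theorem Eqn.ι_sec (q : Eqn I U) : (_root_.ClSub.idealModι I).app U.1 q.sec = q.f :=
  ((ClSub.Sections.mem_range_idealModι_app_affine_iff I U q.f).mpr
    (q.span ▸ Ideal.mem_span_singleton_self q.f)).choose_spec

theorem Eqn.isGen (q : Eqn I U) : IsGen (_root_.ClSub.idealMod I) U.1 q.sec := by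
  haveI := ClSub.Cartier.isIso_ofSection_restrict I U q.f q.nzd q.span q.sec q.ι_sec
  obtain ⟨e, he⟩ := TensorMod.Gen.exists_gen_of_iso
    (asIso (ClSub.Cartier.ofSection ((_root_.ClSub.idealMod I).restrict U.1.ι)
      ((_root_.ClSub.idealMod I).presheaf.map (homOfLE (U.1.ι_image_le ⊤)).op q.sec))).symm
  obtain ⟨c, hc⟩ := Ample.GenLocus.exists_coord he q.sec
  rw [hc]
  refine Ample.GenLocus.IsGen_smul_isUnit he ?_
  have hmem : (show Γ(X, U.1) from (_root_.ClSub.idealModι I).app U.1 e) ∈ Ideal.span {q.f} :=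
    q.span ▸ (ClSub.Sections.mem_range_idealModι_app_affine_iff I U _).1 ⟨e, rfl⟩
  obtain ⟨d, hd⟩ := Ideal.mem_span_singleton'.1 hmem
  have h1 : c * (d * q.f) = q.f := by
    rw [hd]
    refine Eq.trans ?_ q.ι_sec
    conv_rhs => rw [hc, Scheme.Modules.Hom.app_smul]
    rfl
  refine IsUnit.of_mul_eq_one d ((mul_cancel_right_mem_nonZeroDivisors q.nzd).1 ?_)
  rw [mul_assoc, h1, one_mul]

theorem exists_eqn (hI : BlowUp.IsEffCartierIdeal I) (x : X) :
    ∃ (U : X.affineOpens) (_ : Eqn I U), x ∈ U.1 := by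
  obtain ⟨U, hx, f, hf, hU⟩ := hI x
  exact ⟨U, ⟨f, hf, hU⟩, hx⟩

theorem idealModι_mem_mul (U : X.affineOpens) (m : Γ(_root_.ClSub.idealMod (I * J), U.1)) :
    (_root_.ClSub.toSubscheme I).app U.1 ((_root_.ClSub.idealModι (I * J)).app U.1 m) = 0 := by
  have h := (ClSub.Sections.mem_range_idealModι_app_affine_iff (I * J) U _).1 ⟨m, rfl⟩
  rw [Scheme.IdealSheafData.ideal_mul, Pi.mul_apply] at h
  obtain ⟨m', hm'⟩ := (ClSub.Sections.mem_range_idealModι_app_affine_iff I U _).2 (Ideal.mul_le_left h)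
  rw [← hm']
  exact ClSub.Sections.app_kernel_ι_app _ _ m'

/-- `I J → I`. -/
noncomputable def incl (I J : X.IdealSheafData) : _root_.ClSub.idealMod (I * J) ⟶ _root_.ClSub.idealMod I :=
  kernel.lift _ (_root_.ClSub.idealModι (I * J))
    (Modules.AffineHom.hom_ext_affine fun U m => idealModι_mem_mul U m)

theorem incl_ι (I J : X.IdealSheafData) :
    incl I J ≫ _root_.ClSub.idealModι I = _root_.ClSub.idealModι (I * J) :=
  kernel.lift_ι _ _ _

theorem incl_sec (q : Eqn I U) (r : Eqn J U) : (incl I J).app U.1 (q.mul r).sec = r.f • q.sec := by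
  refine ClSub.Sections.idealModι_app_injective I U.1 ?_
  refine (congr(($(incl_ι I J)).app U.1 (q.mul r).sec)).trans ?_
  rw [(q.mul r).ι_sec, Scheme.Modules.Hom.app_smul, q.ι_sec]
  exact mul_comm (q.f : Γ(X, U.1)) r.f

section Sigma

variable {n : ℕ} (M : Fin n → X.Modules)

/-- Projections of a finite sum. -/
noncomputable def proj (j : Fin n) : (∐ M) ⟶ M j :=
  Sigma.desc fun k => if e : k = j then eqToHom (congrArg M e) else 0

theorem proj_ι_self (j : Fin n) : Sigma.ι M j ≫ proj M j = 𝟙 _ := by simp [proj]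

theorem proj_ι_ne {j k : Fin n} (h : k ≠ j) : Sigma.ι M k ≫ proj M j = 0 := by simp [proj, h]

theorem sum_proj : ∑ j, proj M j ≫ Sigma.ι M j = 𝟙 (∐ M) := by
  refine Sigma.hom_ext _ _ fun k => ?_
  rw [Preadditive.comp_sum, Finset.sum_eq_single k]
  · simp [proj]
  · intro j _ hj; simp [proj, Ne.symm hj]
  · simp

/-- Generators of the summands form a frame of the sum. -/
theorem isFrame_sigma {U : X.Opens} (e : ∀ i, Γ(M i, U)) (he : ∀ i, IsGen (M i) U (e i)) :
    IsFrame (∐ M) U fun i => (Sigma.ι M i).app U (e i) := by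
  refine IsFrame.of_comb fun W h => ⟨fun c c' hc => funext fun j => ?_, fun v => ?_⟩
  · have h2 : ∀ c : Fin n → Γ(X, W), (proj M j).app W (comb (fun i => (Sigma.ι M i).app U (e i)) h c) =
        c j • rs (M j) h (e j) := fun c => by
      simp only [comb, map_sum, Scheme.Modules.Hom.app_smul, ← Modules.TensorSec.app_rs]
      rw [Finset.sum_eq_single j]
      · exact congrArg (c j • ·) (congr(($(proj_ι_self M j)).app W (rs (M j) h (e j))))
      · intro k _ hk
        refine (congrArg (fun t : Γ(M j, W) => c k • t) (congr(($(proj_ι_ne M hk)).app W (rs (M k) h (e k))))).trans ?_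
        simp
      · simp
    exact (he j W h).1 ((h2 c).symm.trans ((congrArg _ hc).trans (h2 c')))
  · choose a ha using fun j => (he j W h).2 ((proj M j).app W v)
    refine ⟨a, ?_⟩
    have hv : v = ∑ j, (Sigma.ι M j).app W ((proj M j).app W v) :=
      (congr(($(sum_proj M)).app W v)).symm.trans (TensorMod.LocIso.sum_app _ _ v)
    rw [hv]
    refine Finset.sum_congr rfl fun j _ => ?_
    rw [← ha j, Scheme.Modules.Hom.app_smul, Modules.TensorSec.app_rs]

end Sigma

variable {L : X.Modules} (ι : L ⟶ Coh.structureModule X)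

/-- `ι^{⊗ q}`. -/
noncomputable def ιpow : (q : ℕ) → (CohB1.tensorPow L q ⟶ Coh.structureModule X)
  | 0 => 𝟙 _
  | q + 1 => KoszTw.tensorMap (ιpow q) ι ≫ (SecTwist.unitorR _).hom

theorem ιpow_app (W : X.Opens) (e : Γ(L, W)) (x : Γ(X, W)) (he : ι.app W e = x) :
    ∀ q, (ιpow ι q).app W (KoszTw.tprod L q W fun _ => e) = x ^ q
  | 0 => (pow_zero x).symm
  | q + 1 => by
    show ((SecTwist.unitorR _).hom.app W) ((KoszTw.tensorMap (ιpow ι q) ι).app W
      (SecTwist.tmul _ _ W (KoszTw.tprod L q W fun _ => e) e)) = _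
    rw [KoszTw.tensorMap_tmul, ιpow_app W e x he q, he]
    refine (SecTwist.unitorR_tmul (Coh.structureModule X) W _ x).trans ?_
    exact (pow_succ' x q).symm

/-- `M ⊗ L^{⊗ q} → M`. -/
noncomputable def contract (M : X.Modules) (q : ℕ) : CohB1.tensorMod M (CohB1.tensorPow L q) ⟶ M :=
  KoszTw.tensorMap (𝟙 M) (ιpow ι q) ≫ (SecTwist.unitorR M).hom

theorem contract_tg (M : X.Modules) (q : ℕ) (W : X.Opens) (e : Γ(L, W)) (x : Γ(X, W))
    (he : ι.app W e = x) (m : Γ(M, W)) :
    (contract ι M q).app W (tg M (KoszTw.tprod L q W fun _ => e) m) = x ^ q • m := by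
  show ((SecTwist.unitorR M).hom.app W) ((KoszTw.tensorMap (𝟙 M) (ιpow ι q)).app W
    (SecTwist.tmul _ _ W m (KoszTw.tprod L q W fun _ => e))) = _
  rw [KoszTw.tensorMap_tmul, ιpow_app ι W e x he q]
  exact SecTwist.unitorR_tmul M W m (x ^ q)

end Groth.Agent.Lib.KoszulSh.Divisor
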