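import Groth.Agent.Lib.KoszulSh.Divisor.TorsionFree
import Mathlib.LinearAlgebra.ExteriorPower.Basis

/-!
# Contraction with a split form
-/

set_option autoImplicit false
universe u

open ExteriorAlgebra

namespace Groth.Agent.Lib.KoszulSh.SplitForm

open Algebra (D)

variable {R : Type u} [CommRing R] {M : Type u} [AddCommGroup M] [Module R M]

/-- The projection along `b` to the kernel of `σ`, on exterior algebras. -/
theorem map_proj (σ : Module.Dual R M) (b : M) (u : ExteriorAlgebra R M) :
    ExteriorAlgebra.map (LinearMap.id - σ.smulRight b) u = u - ι R b * D σ u := by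
  induction u using CliffordAlgebra.left_induction with
  | algebraMap r =>
    rw [AlgHom.commutes]
    erw [CliffordAlgebra.contractLeft_algebraMap]
    rw [mul_zero, sub_zero]
  | add a c ha hc => simp only [map_add, ha, hc, mul_add]; abel
  | ι_mul a m ha =>
    show ExteriorAlgebra.map (LinearMap.id - σ.smulRight b) (ι R m * a) = ι R m * a - ι R b * D σ (ι R m * a)
    rw [map_mul, map_apply_ι, Algebra.D_ι_mul, ha]
    have hbb : ι R b * (ι R b * D σ a) = 0 := by rw [← mul_assoc, ι_sq_zero, zero_mul]
    have hmb : ι R m * (ι R b * D σ a) = -(ι R b * (ι R m * D σ a)) := by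
      rw [← mul_assoc, ← mul_assoc, eq_neg_of_add_eq_zero_left (ι_add_mul_swap m b), neg_mul]
    simp only [LinearMap.sub_apply, LinearMap.id_apply, LinearMap.smulRight_apply, map_sub, map_smul,
      sub_mul, mul_sub, smul_mul_assoc, mul_smul_comm, hbb, smul_zero, hmb]
    abel

theorem coe_map {N : Type u} [AddCommGroup N] [Module R N] (f : M →ₗ[R] N) {q : ℕ} (w : ↥(⋀[R]^q M)) :
    ((exteriorPower.map q f w : ↥(⋀[R]^q N)) : ExteriorAlgebra R N) = ExteriorAlgebra.map f w := by
  have h : (Submodule.subtype _) ∘ₗ exteriorPower.map q f =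
      (ExteriorAlgebra.map f).toLinearMap ∘ₗ (⋀[R]^q M).subtype := by
    refine exteriorPower.linearMap_ext ?_
    ext e
    simp [exteriorPower.map_apply_ιMulti, ExteriorAlgebra.map_apply_ιMulti, Function.comp_def]
  exact LinearMap.congr_fun h w

theorem map_smul_eq {N : Type u} [AddCommGroup N] [Module R N] (a : R) (f : M →ₗ[R] N) (q : ℕ) :
    exteriorPower.map q (a • f) = a ^ q • exteriorPower.map q f := by
  refine exteriorPower.linearMap_ext ?_
  ext e
  simp only [LinearMap.compAlternatingMap_apply, LinearMap.smul_apply, exteriorPower.map_apply_ιMulti]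
  rw [show ⇑(a • f) ∘ e = fun i => a • (f ∘ e) i from rfl, AlternatingMap.map_smul_univ, Finset.prod_const,
    Finset.card_univ, Fintype.card_fin]

theorem D_eq_zero_zero (φ : Module.Dual R M) (w : ↥(⋀[R]^0 M)) : D φ (w : ExteriorAlgebra R M) = 0 := by
  obtain ⟨r, hr⟩ := Submodule.mem_span_singleton.1 (by
    have h1 := w.2
    change _ ∈ LinearMap.range (ExteriorAlgebra.ι R (M := M)) ^ 0 at h1
    rwa [pow_zero, Submodule.one_eq_span] at h1)
  rw [← hr, map_smul, Algebra.D_one, smul_zero]

/-- A multiple of a regular element with a split form: cycles are values of the section of the kernel. -/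
theorem map_comp_eq {N : Type u} [AddCommGroup N] [Module R N] (v : N →ₗ[R] M) (π : M →ₗ[R] N)
    {σ : Module.Dual R M} {b : M} (hvπ : v ∘ₗ π = LinearMap.id - σ.smulRight b) {q : ℕ} (w : ↥(⋀[R]^q M))
    (hw : D σ (w : ExteriorAlgebra R M) = 0) :
    exteriorPower.map q v (exteriorPower.map q π w) = w := by
  refine Subtype.ext ?_
  rw [coe_map, coe_map, ← AlgHom.comp_apply, map_comp_map, hvπ, map_proj, hw, mul_zero, sub_zero]

theorem eq_zero_of_smul {n : ℕ} (B : Module.Basis (Fin n) R M) {x : R} (hx : x ∈ nonZeroDivisors R) {q : ℕ}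
    {w : ↥(⋀[R]^q M)} (h : x • w = 0) : w = 0 := by
  apply (B.exteriorPower q).repr.injective
  rw [map_zero]
  ext i
  refine (mem_nonZeroDivisors_iff.1 hx).1 _ ?_
  simpa using congrArg (fun v => (B.exteriorPower q).repr v i) h

end Groth.Agent.Lib.KoszulSh.SplitForm
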