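import Groth.Agent.Lib.KoszulSh.Divisor.Cycles
import Groth.Agent.Lib.KoszulSh.Divisor.SplitForm
import Groth.Agent.Lib.Modules.BasisHom
import Groth.Agent.Lib.Modules.UnitKer

/-!
# The Koszul complex of copies of one invertible ideal
-/

set_option autoImplicit false
set_option linter.style.haveILetI false
universe u

open CategoryTheory CategoryTheory.Limits AlgebraicGeometry Opposite TopologicalSpace

namespace Groth.Agent.Lib.KoszulSh.Copies

open Groth.Agent.Lib Modules.TensorGen Modules.LocalSections Modules.UnitKer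
open Groth.Agent.Lib.TensorMod.Dual (rs rf rs_smul rs_rs rf_rf rs_self rf_self)
open Groth.Agent.Lib.TensorMod.Gen (IsGen one)
open Groth.Agent.Lib.Modules.TensorSec (app_rs)
open Groth.Agent.Lib.KoszulSh.Divisor (Eqn)

variable {X : Scheme.{u}} (I : X.IdealSheafData) (n : ℕ)

/-- `I^n`. -/
noncomputable abbrev En : X.Modules := ∐ fun _ : Fin n => _root_.ClSub.idealMod I

/-- The sum `I^n → O`. -/
noncomputable abbrev Sn : En I n ⟶ Coh.structureModule X :=
  Limits.Sigma.desc fun _ : Fin n => _root_.ClSub.idealModι I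

theorem lt_of_pred {k : ℕ} (hk : k < n - 1) : n - 1 < n := by omega

/-- `a ↦ a e_k - a e_n`. -/
noncomputable def w (k : Fin (n - 1)) : _root_.ClSub.idealMod I ⟶ En I n :=
  Limits.Sigma.ι (fun _ : Fin n => _root_.ClSub.idealMod I) ⟨k, lt_of_lt_of_le k.2 (Nat.sub_le n 1)⟩ -
    Limits.Sigma.ι (fun _ : Fin n => _root_.ClSub.idealMod I) ⟨n - 1, lt_of_pred n k.2⟩

/-- The standard sections of `O^m`. -/
noncomputable def g (X : Scheme.{u}) (m : ℕ) (U : X.Opens) (k : Fin m) : Γ(FlatMod.freeMod X m, U) :=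
  (Limits.Sigma.ι (fun _ : Fin m => Coh.structureModule X) k).app U (one X U)

/-- The standard basis. -/
noncomputable def Bg (X : Scheme.{u}) (m : ℕ) (U : X.Opens) :
    Module.Basis (Fin m) Γ(X, U) Γ(FlatMod.freeMod X m, U) :=
  (Divisor.exists_basis (Divisor.isFrame_sigma (fun _ : Fin m => Coh.structureModule X) (fun _ => one X U)
    fun _ => Ample.GenLocus.isGen_one U)).choose

theorem Bg_eq (m : ℕ) (U : X.Opens) (k : Fin m) : Bg X m U k = g X m U k :=
  congrFun (Divisor.exists_basis (Divisor.isFrame_sigma (fun _ : Fin m => Coh.structureModule X) (fun _ => one X U)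
    fun _ => Ample.GenLocus.isGen_one U)).choose_spec k

theorem rs_g {U V : X.Opens} (h : V ≤ U) (m : ℕ) (k : Fin m) : rs _ h (g X m U k) = g X m V k := by
  rw [g, g, ← app_rs]
  exact congrArg _ (map_one (X.presheaf.map (homOfLE h).op).hom)

variable {I} {n}

/-- The section of the kernel of the sum given by a section of `I`. -/
noncomputable def v {U : X.Opens} (a : Γ(_root_.ClSub.idealMod I, U)) :
    Γ(FlatMod.freeMod X (n - 1), U) →ₗ[Γ(X, U)] Γ(En I n, U) :=
  (Bg X (n - 1) U).constr Γ(X, U) fun k => (w I n k).app U a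

theorem v_g {U : X.Opens} (a : Γ(_root_.ClSub.idealMod I, U)) (k : Fin (n - 1)) :
    v (n := n) a (g X (n - 1) U k) = (w I n k).app U a := by
  rw [v, ← Bg_eq, Module.Basis.constr_basis]

theorem v_smul {U : X.Opens} (r : Γ(X, U)) (a : Γ(_root_.ClSub.idealMod I, U)) :
    v (n := n) (r • a) = r • v a := by
  refine (Bg X (n - 1) U).ext fun k => ?_
  rw [LinearMap.smul_apply, Bg_eq, v_g, v_g, Scheme.Modules.Hom.app_smul]

theorem rs_v {U V : X.Opens} (h : V ≤ U) (a : Γ(_root_.ClSub.idealMod I, U))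
    (z : Γ(FlatMod.freeMod X (n - 1), U)) : rs _ h (v (n := n) a z) = v (rs _ h a) (rs _ h z) := by
  conv_lhs => rw [← (Bg X (n - 1) U).sum_repr z]
  conv_rhs => rw [← (Bg X (n - 1) U).sum_repr z]
  simp only [map_sum, map_smul, Modules.TensorSec.rs_sum, rs_smul, Bg_eq, v_g, rs_g, ← app_rs]

theorem exists_split {U : X.Opens} (a : Γ(_root_.ClSub.idealMod I, U)) (ha : IsGen (_root_.ClSub.idealMod I) U a) :
    ∃ (π : Γ(En I n, U) →ₗ[Γ(X, U)] Γ(FlatMod.freeMod X (n - 1), U)) (σ : Module.Dual Γ(X, U) Γ(En I n, U))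
      (b : Γ(En I n, U)) (_ : Module.Basis (Fin n) Γ(X, U) Γ(En I n, U)),
      π ∘ₗ v a = LinearMap.id ∧ v a ∘ₗ π = LinearMap.id - σ.smulRight b ∧ σ ∘ₗ v a = 0 ∧
      KoszSh.secForm (Sn I n) U = (show Γ(X, U) from (_root_.ClSub.idealModι I).app U a) • σ ∧
      (1 ≤ n → σ b = 1) := by
  obtain ⟨B, hB⟩ := Divisor.exists_basis
    (Divisor.isFrame_sigma (fun _ : Fin n => _root_.ClSub.idealMod I) (fun _ => a) fun _ => ha)
  have hw : ∀ k : Fin (n - 1), (w I n k).app U a =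
      B ⟨k, lt_of_lt_of_le k.2 (Nat.sub_le n 1)⟩ - B ⟨n - 1, lt_of_pred n k.2⟩ := fun k => by
    rw [hB, w, Scheme.Modules.Hom.sub_app]; rfl
  let π := B.constr Γ(X, U) fun i : Fin n => if h : (i : ℕ) < n - 1 then g X (n - 1) U ⟨i, h⟩ else 0
  let σ : Module.Dual Γ(X, U) Γ(En I n, U) := B.constr Γ(X, U) fun _ => (1 : Γ(X, U))
  let b : Γ(En I n, U) := if h : 0 < n then B ⟨n - 1, by omega⟩ else 0
  have hσ : ∀ i, σ (B i) = 1 := fun i => B.constr_basis _ _ _
  have hπ : ∀ i : Fin n, π (B i) = if h : (i : ℕ) < n - 1 then g X (n - 1) U ⟨i, h⟩ else 0 := fun i =>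
    B.constr_basis _ _ _
  refine ⟨π, σ, b, B, ?_, ?_, ?_, ?_, ?_⟩
  · refine (Bg X (n - 1) U).ext fun k => ?_
    rw [LinearMap.comp_apply, Bg_eq, v_g, hw, map_sub, hπ, hπ, dif_pos k.2, dif_neg (lt_irrefl _), sub_zero]
    rfl
  · refine B.ext fun i => ?_
    have hn : 0 < n := lt_of_le_of_lt (Nat.zero_le _) i.2
    rw [LinearMap.comp_apply, LinearMap.sub_apply, LinearMap.id_apply, LinearMap.smulRight_apply, hσ, one_smul,
      show b = B ⟨n - 1, by omega⟩ from dif_pos hn, hπ]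
    split
    · rw [v_g, hw]
    · rw [map_zero, show i = ⟨n - 1, by omega⟩ from Fin.ext (by simp only; omega), sub_self]
  · refine (Bg X (n - 1) U).ext fun k => ?_
    rw [LinearMap.comp_apply, Bg_eq, v_g, hw, map_sub, hσ, hσ, sub_self, LinearMap.zero_apply]
  · refine B.ext fun i => ?_
    rw [LinearMap.smul_apply, hσ, smul_eq_mul, mul_one, hB]
    exact congr(($(Limits.Sigma.ι_desc (fun _ : Fin n => _root_.ClSub.idealModι I) i)).app U a)
  · intro hn
    rw [show b = B ⟨n - 1, by omega⟩ from dif_pos hn]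
    exact hσ _

theorem exists_eqn_in (hI : BlowUp.IsEffCartierIdeal I) {V : X.Opens} {p : X} (hp : p ∈ V) :
    ∃ (U : X.affineOpens) (_ : Eqn I U), p ∈ U.1 ∧ U.1 ≤ V := by
  obtain ⟨U₀, e, hp₀⟩ := Divisor.exists_eqn hI p
  obtain ⟨U, hU, hpU⟩ := Modules.AffineHom.exists_affine (show p ∈ V ⊓ U₀.1 from ⟨hp, hp₀⟩)
  exact ⟨U, e.res U (hU.trans inf_le_right), hpU, hU.trans inf_le_left⟩

variable (C : KoszSh.Cx (En I n) (Sn I n)) {q : ℕ} {L : X.Modules}
  (φ : ∀ U : X.affineOpens, Γ(L, U.1) ≃ₗ[Γ(X, U.1)] ↥(⋀[Γ(X, U.1)]^q Γ(FlatMod.freeMod X (n - 1), U.1)))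
  (hφ : ∀ (U V : X.affineOpens) (h : V.1 ≤ U.1) (e : Fin q → Γ(FlatMod.freeMod X (n - 1), U.1)),
    rs L h ((φ U).symm (exteriorPower.ιMulti _ q e)) =
      (φ V).symm (exteriorPower.ιMulti _ q fun j => rs _ h (e j)))

/-- The generator of a power. -/
noncomputable abbrev G {U : X.Opens} (q : ℕ) (a : Γ(_root_.ClSub.idealMod I, U)) :
    Γ(CohB1.tensorPow (_root_.ClSub.idealMod I) q, U) :=
  KoszTw.tprod (_root_.ClSub.idealMod I) q U fun _ => a

theorem G_smul {U : X.Opens} (r : Γ(X, U)) (a : Γ(_root_.ClSub.idealMod I, U)) :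
    ∀ q, G q (r • a) = r ^ q • G q a
  | 0 => by rw [pow_zero, one_smul]; rfl
  | q + 1 => by
    show (SecTwist.tmul _ _ U (G q (r • a)) (r • a) :
      Γ(CohB1.tensorMod (CohB1.tensorPow (_root_.ClSub.idealMod I) q) (_root_.ClSub.idealMod I), U)) = _
    rw [G_smul r a q, Ample.GenLocus.tmul_smul, ← pow_succ]
    rfl

/-- `l ↦ ∧ v (l)`. -/
noncomputable def val₀ (U : X.affineOpens) (a : Γ(_root_.ClSub.idealMod I, U.1)) :
    Γ(L, U.1) →ₗ[Γ(X, U.1)] Γ(C.K.X q, U.1) :=
  (C.loc q U).symm.toLinearMap ∘ₗ exteriorPower.map q (v a) ∘ₗ (φ U).toLinearMap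

include hφ in
theorem rs_val₀ (U V : X.affineOpens) (h : V.1 ≤ U.1) (a : Γ(_root_.ClSub.idealMod I, U.1)) (l : Γ(L, U.1)) :
    rs _ h (val₀ C φ U a l) = val₀ C φ V (rs _ h a) (rs L h l) := by
  obtain ⟨t, rfl⟩ := (φ U).symm.surjective l
  have ht : t ∈ Submodule.span Γ(X, U.1)
      (Set.range (exteriorPower.ιMulti Γ(X, U.1) q (M := Γ(FlatMod.freeMod X (n - 1), U.1)))) := by
    rw [exteriorPower.ιMulti_span]; trivial
  induction ht using Submodule.span_induction with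
  | mem t ht =>
    obtain ⟨e, rfl⟩ := ht
    rw [hφ U V h e]
    simp only [val₀, LinearMap.comp_apply, LinearEquiv.coe_coe, LinearEquiv.apply_symm_apply,
      exteriorPower.map_apply_ιMulti]
    refine (C.loc_res q U V h _).trans ?_
    exact congrArg _ (congrArg _ (funext fun j => rs_v h a (e j)))
  | zero => simp only [map_zero, Modules.TensorSec.rs_zero]
  | add a b _ _ ha hb => simp only [map_add, Modules.TensorSec.rs_add, ha, hb]
  | smul r b _ hb => simp only [map_smul, rs_smul, hb]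

theorem val₀_smul (U : X.affineOpens) (r : Γ(X, U.1)) (a : Γ(_root_.ClSub.idealMod I, U.1)) (l : Γ(L, U.1)) :
    val₀ C φ U (r • a) l = r ^ q • val₀ C φ U a l := by
  simp only [val₀, LinearMap.comp_apply, LinearEquiv.coe_coe, v_smul, SplitForm.map_smul_eq,
    LinearMap.smul_apply, map_smul]

/-- Affine opens where `I` has a generator. -/
def HasGen (I : X.IdealSheafData) (U : X.affineOpens) : Prop := ∃ a, IsGen (_root_.ClSub.idealMod I) U.1 a

include hφ in
theorem exists_ψ (hI : BlowUp.IsEffCartierIdeal I) :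
    ∃ ψ : CohB1.tensorMod L (CohB1.tensorPow (_root_.ClSub.idealMod I) q) ⟶ C.K.X q,
      ∀ (U : X.affineOpens) (a : Γ(_root_.ClSub.idealMod I, U.1)), IsGen (_root_.ClSub.idealMod I) U.1 a →
        ∀ l : Γ(L, U.1), ψ.app U.1 (tg L (G q a) l) = val₀ C φ U a l := by
  let T : ∀ (U : X.affineOpens) (hU : HasGen I U),
      Γ(L, U.1) ≃ₗ[Γ(X, U.1)] Γ(CohB1.tensorMod L (CohB1.tensorPow (_root_.ClSub.idealMod I) q), U.1) :=
    fun U hU => LinearEquiv.ofBijective (tg L (G q hU.choose)) (tg_bijective (isGen_tprodConst hU.choose_spec q))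
  have hT : ∀ (U : X.affineOpens) (hU : HasGen I U) (a : Γ(_root_.ClSub.idealMod I, U.1))
      (l : Γ(L, U.1)),
      val₀ C φ U hU.choose ((T U hU).symm (tg L (G q a) l)) = val₀ C φ U a l := by
    intro U hU a l
    obtain ⟨r, hr⟩ := Ample.GenLocus.exists_coord hU.choose_spec a
    have : (T U hU).symm (tg L (G q a) l) = r ^ q • l := by
      rw [LinearEquiv.symm_apply_eq]
      show tg L (G q a) l = tg L (G q hU.choose) (r ^ q • l)
      rw [hr, G_smul, map_smul, tg_apply, tg_apply, ← one_smul Γ(X, U.1) l, Ample.GenLocus.tmul_smul,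
        one_mul, one_smul]
      rfl
    rw [this, map_smul, hr, val₀_smul]
  obtain ⟨ψ, hψ⟩ := Modules.BasisHom.exists_hom_of_basis (P := HasGen I)
    (fun {V} {p} hp => by
      obtain ⟨U, e, hpU, hUV⟩ := exists_eqn_in hI hp
      exact ⟨U, ⟨e.sec, e.isGen⟩, hUV, hpU⟩)
    (fun U hU => val₀ C φ U hU.choose ∘ₗ (T U hU).symm.toLinearMap) fun U V hU hV h m => by
      obtain ⟨l, rfl⟩ := (T U hU).surjective m
      simp only [LinearMap.comp_apply, LinearEquiv.coe_coe, LinearEquiv.symm_apply_apply]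
      rw [rs_val₀ C φ hφ U V h, ← hT V hV (rs _ h hU.choose)]
      congr 2
      show _ = rs _ h (tg L (G q hU.choose) l)
      rw [rs_tg]
      exact congrArg (fun t => tg L t (rs L h l))
        (KoszTw.map_tprod (_root_.ClSub.idealMod I) q (homOfLE h) fun _ => hU.choose).symm
  exact ⟨ψ, fun U a ha l => (hψ U ⟨a, ha⟩ _).trans (hT U ⟨a, ha⟩ a l)⟩

theorem D_cycle_eq_zero {U : X.affineOpens} (e : Eqn I U) {σ : Module.Dual Γ(X, U.1) Γ(En I n, U.1)}
    (B : Module.Basis (Fin n) Γ(X, U.1) Γ(En I n, U.1))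
    (hσ : KoszSh.secForm (Sn I n) U.1 = (show Γ(X, U.1) from (_root_.ClSub.idealModι I).app U.1 e.sec) • σ)
    (u : Γ(C.K.X q, U.1)) (hu : ∀ j, (C.K.d q j).app U.1 u = 0) :
    Algebra.D σ (C.loc q U u : ExteriorAlgebra Γ(X, U.1) Γ(En I n, U.1)) = 0 := by
  cases q with
  | zero => exact SplitForm.D_eq_zero_zero σ _
  | succ q =>
    refine congrArg Subtype.val (SplitForm.eq_zero_of_smul B e.nzd ?_ : Algebra.d σ q _ = 0)
    have h : Algebra.d (KoszSh.secForm (Sn I n) U.1) q (C.loc (q + 1) U u) = 0 := by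
      rw [← Sections.d_app, hu, map_zero]
    rw [hσ, Twist.d_smul] at h
    rw [e.ι_sec] at h
    exact h

variable (hI : BlowUp.IsEffCartierIdeal I)

include hφ hI in
/-- `L ⊗ I^q ≅ Z_q`. -/
theorem nonempty_iso_cycles :
    Nonempty (C.K.cycles q ≅ CohB1.tensorMod L (CohB1.tensorPow (_root_.ClSub.idealMod I) q)) := by
  obtain ⟨ψ, hψ⟩ := exists_ψ C φ hφ hI
  have hd : ψ ≫ C.K.d q ((ComplexShape.down ℕ).next q) = 0 := by
    cases q with
    | zero => rw [C.K.shape _ _ (by simp), comp_zero]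
    | succ q =>
      rw [ChainComplex.next_nat_succ]
      refine hom_eq_zero fun U m p hp => ?_
      obtain ⟨W, e, hpW, hWU⟩ := exists_eqn_in hI hp
      obtain ⟨l, hl⟩ := tg_surjective (isGen_tprodConst e.isGen (q + 1)) (rs _ hWU m)
      obtain ⟨π, σ, b, B, -, -, hσv, hs, -⟩ := exists_split e.sec e.isGen (n := n)
      refine ⟨W.1, hWU, hpW, ?_⟩
      rw [← hl, Scheme.Modules.Hom.comp_app, CategoryTheory.comp_apply, hψ W e.sec e.isGen]
      refine (C.loc q W).injective ?_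
      rw [map_zero, Sections.d_app]
      simp only [val₀, LinearMap.comp_apply, LinearEquiv.coe_coe, LinearEquiv.apply_symm_apply]
      rw [Twist.d_map, hs, LinearMap.smul_comp, hσv, smul_zero]
      refine (congrArg _ (Subtype.ext ?_ : _ = (0 : ↥(⋀[Γ(X, W.1)]^q _)))).trans (map_zero _)
      exact congrArg (fun f : ExteriorAlgebra Γ(X, W.1) _ →ₗ[Γ(X, W.1)] _ => f _)
        (map_zero CliffordAlgebra.contractLeft)
  let Ψ := C.K.liftCycles ψ _ rfl hd
  have hΨ : ∀ (U : X.Opens) m, (C.K.iCycles q).app U (Ψ.app U m) = ψ.app U m := fun U m =>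
    congr(($(C.K.liftCycles_i ψ _ rfl hd)).app U m)
  haveI : Mono Ψ := mono_of_local fun U m hm p hp => by
    obtain ⟨W, e, hpW, hWU⟩ := exists_eqn_in hI hp
    obtain ⟨l, hl⟩ := tg_surjective (isGen_tprodConst e.isGen q) (rs _ hWU m)
    obtain ⟨π, σ, b, B, hπv, -, -, -, -⟩ := exists_split e.sec e.isGen (n := n)
    refine ⟨W.1, hWU, hpW, ?_⟩
    have h0 : val₀ C φ W e.sec l = 0 := by
      rw [← hψ W e.sec e.isGen, hl, ← hΨ, app_rs Ψ, hm, Modules.TensorSec.rs_zero, map_zero]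
    simp only [val₀, LinearMap.comp_apply, LinearEquiv.coe_coe, LinearEquiv.map_eq_zero_iff] at h0
    have h1 := congrArg (exteriorPower.map q π) h0
    rw [map_zero, ← LinearMap.comp_apply, ← exteriorPower.map_comp, hπv, exteriorPower.map_id,
      LinearMap.id_apply, LinearEquiv.map_eq_zero_iff] at h1
    rw [← hl, h1, map_zero]
  haveI : Epi Ψ := epi_of_local fun U z p hp => by
    obtain ⟨W, e, hpW, hWU⟩ := exists_eqn_in hI hp
    obtain ⟨π, σ, b, B, -, hvπ, -, hs, -⟩ := exists_split e.sec e.isGen (n := n)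
    have hDσ := D_cycle_eq_zero C e B hs ((C.K.iCycles q).app W.1 (rs _ hWU z))
      (Divisor.d_iCycles C.K _)
    refine ⟨W.1, hWU, tg L (G q e.sec) ((φ W).symm (exteriorPower.map q π
      (C.loc q W ((C.K.iCycles q).app W.1 (rs _ hWU z))))), hpW, Divisor.iCycles_injective C.K ?_⟩
    rw [hΨ, hψ W e.sec e.isGen]
    simp only [val₀, LinearMap.comp_apply, LinearEquiv.coe_coe, LinearEquiv.apply_symm_apply]
    rw [SplitForm.map_comp_eq (v e.sec) π hvπ _ hDσ, LinearEquiv.symm_apply_apply]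
  haveI := isIso_of_mono_of_epi Ψ
  exact ⟨(asIso Ψ).symm⟩

omit φ in
include hI in
/-- `H_q ≅ Z_q|_Y`. -/
theorem nonempty_iso_homology (hn : 1 ≤ n) (q : ℕ) :
    Nonempty (C.K.homology q ≅ (onD I).obj (C.K.cycles q)) := by
  have hz : C.K.toCycles (q + 1) q ≫ η I (C.K.cycles q) = 0 := hom_eq_zero fun U m p hp => by
    obtain ⟨W, e, hpW, hWU⟩ := exists_eqn_in hI hp
    obtain ⟨π, σ, b, B, -, -, -, hs, -⟩ := exists_split e.sec e.isGen (n := n)
    set u := rs (C.K.X (q + 1)) hWU m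
    obtain ⟨z, hzu⟩ := Divisor.exists_cycle C.K ((C.loc q W).symm (Algebra.d σ q (C.loc (q + 1) W u))) (by
      cases q with
      | zero => rw [C.K.shape _ _ (by simp)]; rfl
      | succ q =>
        rw [ChainComplex.next_nat_succ]
        refine (C.loc q W).injective ?_
        rw [map_zero, Sections.d_app, LinearEquiv.apply_symm_apply, hs, Twist.d_smul]
        refine Subtype.ext ?_
        show _ • Algebra.D σ (Algebra.D σ _) = (0 : ExteriorAlgebra _ _)
        rw [CliffordAlgebra.contractLeft_contractLeft, smul_zero])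
    refine ⟨W.1, hWU, hpW, ?_⟩
    have key : (C.K.toCycles (q + 1) q).app W.1 u = e.f • z := by
      refine Divisor.iCycles_injective C.K ((C.loc q W).injective ?_)
      rw [Divisor.iCycles_toCycles, Sections.d_app, Scheme.Modules.Hom.app_smul, hzu, map_smul,
        LinearEquiv.apply_symm_apply, hs, Twist.d_smul, e.ι_sec]
    rw [Scheme.Modules.Hom.comp_app, CategoryTheory.comp_apply, key, ← rf_self le_rfl e.f,
      app_smul_eq_zero e.span]
  let Θ : C.K.homology q ⟶ (onD I).obj (C.K.cycles q) :=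
    (C.K.homologyIsCokernel (q + 1) q (by simp)).desc (CokernelCofork.ofπ (η I (C.K.cycles q)) hz)
  have hΘ : C.K.homologyπ q ≫ Θ = η I (C.K.cycles q) :=
    (C.K.homologyIsCokernel (q + 1) q (by simp)).fac _ WalkingParallelPair.one
  haveI : Epi (C.K.homologyπ q ≫ Θ) := by rw [hΘ]; infer_instance
  haveI : Epi Θ := epi_of_epi (C.K.homologyπ q) Θ
  haveI : Mono Θ := mono_of_local fun U h hh p hp => by
    obtain ⟨V, hV, z, hpV, hz'⟩ := exists_preimage (C.K.homologyπ q) h hp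
    obtain ⟨W, e, hpW, hWV⟩ := exists_eqn_in hI hpV
    have hη : (η I (C.K.cycles q)).app W.1 (rs _ hWV z) = 0 := by
      rw [← hΘ, Scheme.Modules.Hom.comp_app, CategoryTheory.comp_apply, app_rs (C.K.homologyπ q), hz',
        rs_rs, app_rs, hh, Modules.TensorSec.rs_zero]
    obtain ⟨W', hW', z', hpW', hzz⟩ := Modules.UnitKer.exists_eq_smul e.span le_rfl _ hη hpW
    obtain ⟨W₂, hW₂, hp₂⟩ := Modules.AffineHom.exists_affine hpW'
    let e₂ := e.res W₂ (hW₂.trans hW')
    obtain ⟨π, σ, b, B, -, -, -, hs, hb⟩ := exists_split e₂.sec e₂.isGen (n := n)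
    have hDσ := D_cycle_eq_zero C e₂ B hs ((C.K.iCycles q).app W₂.1 (rs _ hW₂ z'))
      (Divisor.d_iCycles C.K _)
    set t := C.loc q W₂ ((C.K.iCycles q).app W₂.1 (rs _ hW₂ z'))
    let bt : ↥(⋀[Γ(X, W₂.1)]^(q + 1) Γ(En I n, W₂.1)) :=
      ⟨ExteriorAlgebra.ι Γ(X, W₂.1) b * t, by
        show _ ∈ LinearMap.range (ExteriorAlgebra.ι Γ(X, W₂.1) (M := Γ(En I n, W₂.1))) ^ (q + 1)
        rw [pow_succ']
        exact Submodule.mul_mem_mul ⟨b, rfl⟩ t.2⟩
    have key : (C.K.toCycles (q + 1) q).app W₂.1 ((C.loc (q + 1) W₂).symm bt) = e₂.f • rs _ hW₂ z' := by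
      refine Divisor.iCycles_injective C.K ((C.loc q W₂).injective ?_)
      rw [Divisor.iCycles_toCycles, Sections.d_app, LinearEquiv.apply_symm_apply, Scheme.Modules.Hom.app_smul,
        map_smul, hs, Twist.d_smul, e₂.ι_sec]
      refine congrArg (e₂.f • ·) (Subtype.ext ?_)
      show Algebra.D σ (ExteriorAlgebra.ι _ b * (t : ExteriorAlgebra _ _)) = t
      rw [Algebra.D_ι_mul, hb hn, one_smul, hDσ, mul_zero, sub_zero]
    refine ⟨W₂.1, hW₂.trans (hW'.trans (hWV.trans hV)), hp₂, ?_⟩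
    have he : rs (C.K.cycles q) (hW₂.trans (hW'.trans hWV)) z = e₂.f • rs _ hW₂ z' := by
      rw [← rs_rs _ (hW'.trans hWV) hW₂, ← rs_rs _ hWV hW', hzz, rs_smul, rf_rf]
      rfl
    rw [← rs_rs _ hV (hW₂.trans (hW'.trans hWV)), ← hz', ← app_rs, he, ← key, Divisor.π_toCycles]
  haveI := isIso_of_mono_of_epi Θ
  exact ⟨asIso Θ⟩

end Groth.Agent.Lib.KoszulSh.Copies
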