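import Groth.Agent.Lib.Depth.CM

/-!
# Embedded primes of regular sequences in Cohen–Macaulay rings
-/

set_option autoImplicit false
universe u

open RingTheory.Sequence Pointwise LocCoh IsLocalRing
open Groth.Agent.Lib.Depth

namespace Groth.Agent.Lib.KoszulSh.CMQuot

section Local

variable {R : Type u} [CommRing R] [IsNoetherianRing R] [IsLocalRing R]

theorem isCM_quotient : ∀ (rs : List R) (M : Type u) [AddCommGroup M] [Module R M] [Module.Finite R M],
    IsCohenMacaulayModule R M → (∀ r ∈ rs, r ∈ maximalIdeal R) → IsWeaklyRegular M rs →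
      IsCohenMacaulayModule R (M ⧸ Ideal.ofList rs • (⊤ : Submodule R M))
  | [], M, _, _, _, hM, _, _ =>
    (CM.isCohenMacaulayModule_congr (Submodule.quotEquivOfEqBot _ (by simp))).2 hM
  | r :: rs, M, _, _, _, hM, hmem, hreg => by
    obtain ⟨h1, h2⟩ := (isWeaklyRegular_cons_iff M r rs).1 hreg
    have hm := List.forall_mem_cons.1 hmem
    exact (CM.isCohenMacaulayModule_congr (Submodule.quotOfListConsSMulTopEquivQuotSMulTopInner M r rs)).2
      (isCM_quotient rs (QuotSMulTop r M) ((CM.isCohenMacaulayModule_quotSMulTop_iff hm.1 h1).2 hM) hm.2 h2)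

/-- A regular sequence cutting a local ring of depth zero out of a Cohen–Macaulay ring cuts down to dimension zero. -/
theorem ringKrullDim_quotient_eq_zero [IsCohenMacaulayLocalRing R] (rs : List R)
    (hmem : ∀ r ∈ rs, r ∈ maximalIdeal R) (hreg : IsWeaklyRegular R rs) (r : R) (hr : r ∉ Ideal.ofList rs)
    (hkill : ∀ a ∈ maximalIdeal R, a * r ∈ Ideal.ofList rs) : ringKrullDim (R ⧸ Ideal.ofList rs) = 0 := by
  set J := Ideal.ofList rs
  have hJ : J • (⊤ : Submodule R R) = J := by rw [smul_eq_mul, Ideal.mul_top]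
  have hcm : IsCohenMacaulayModule R (R ⧸ J) :=
    (CM.isCohenMacaulayModule_congr (Submodule.quotEquivOfEq _ _ hJ)).1
      (isCM_quotient rs R CM.isCohenMacaulayModule_self hmem hreg)
  have hass : maximalIdeal R ∈ associatedPrimes R (R ⧸ J) := by
    refine (isAssociatedPrime_iff).2 ⟨inferInstance, Ideal.Quotient.mk J r, ?_⟩
    refine le_antisymm (fun a ha => ?_) (IsLocalRing.le_maximalIdeal fun h => ?_)
    · rw [Submodule.mem_colon_singleton]
      exact (Submodule.mem_bot R).2 (Ideal.Quotient.eq_zero_iff_mem.2 (hkill a ha))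
    · have h1 : (1 : R) ∈ (⊥ : Submodule R (R ⧸ J)).colon {Ideal.Quotient.mk J r} := h ▸ Submodule.mem_top
      rw [Submodule.mem_colon_singleton, one_smul, Submodule.mem_bot] at h1
      exact hr (Ideal.Quotient.eq_zero_iff_mem.1 h1)
  rw [← Module.supportDim_quotient_eq_ringKrullDim, ← CM.ringKrullDim_quotient_eq hcm hass]
  exact ringKrullDim_eq_zero_of_isField
    ((Ideal.Quotient.maximal_ideal_iff_isField_quotient _).1 (maximalIdeal.isMaximal R))

end Local

/-- At an embedded prime of a regular sequence of a Cohen–Macaulay ring the quotient has dimension zero. -/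
theorem ringKrullDim_localization_eq_zero {B : Type u} [CommRing B] (P : Ideal B) [P.IsPrime]
    (R : Type u) [CommRing R] [Algebra B R] [IsLocalization.AtPrime R P] [IsCohenMacaulayLocalRing R]
    (rs : List B) (hreg : IsWeaklyRegular B rs) (hJ : Ideal.ofList rs ≤ P) (r : B)
    (hP : ∀ a, a ∈ P ↔ a * r ∈ Ideal.ofList rs) :
    ringKrullDim (R ⧸ (Ideal.ofList rs).map (algebraMap B R)) = 0 := by
  rw [Ideal.map_ofList]
  refine ringKrullDim_quotient_eq_zero _ (fun a ha => ?_)
    (hreg.of_isLocalization R P.primeCompl) (algebraMap B R r) (fun h => ?_) fun a ha => ?_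
  · obtain ⟨b, hb, rfl⟩ := List.mem_map.1 ha
    exact (IsLocalization.AtPrime.to_map_mem_maximal_iff R P b).2 (hJ (Ideal.subset_span hb))
  · rw [← Ideal.map_ofList, IsLocalization.algebraMap_mem_map_algebraMap_iff P.primeCompl] at h
    obtain ⟨s, hs, hsr⟩ := h
    exact hs ((hP s).2 hsr)
  · obtain ⟨b, s, rfl⟩ := IsLocalization.exists_mk'_eq P.primeCompl a
    have hb : b ∈ P := (IsLocalization.AtPrime.mk'_mem_maximal_iff R P b s).1 ha
    rw [← Ideal.map_ofList, IsLocalization.mk'_eq_mul_mk'_one, mul_right_comm, ← map_mul]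
    exact Ideal.mul_mem_right _ _ (Ideal.mem_map_of_mem _ ((hP b).1 hb))

end Groth.Agent.Lib.KoszulSh.CMQuot
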