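import Groth.Agent.Lib.KoszulSh.Divisor.Chart

/-!
# Cycles after twisting by a divisor
-/

set_option autoImplicit false
set_option linter.style.haveILetI false
universe u

open CategoryTheory CategoryTheory.Limits AlgebraicGeometry Opposite TopologicalSpace

namespace Groth.Agent.Lib.KoszulSh.Divisor

open Groth.Agent.Lib Modules.TensorGen Modules.LocalSections
open Groth.Agent.Lib.TensorMod.Dual (rs rf rs_smul rs_rs rf_rf rs_self rf_self)
open Groth.Agent.Lib.TensorMod.Gen (IsGen)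
open Groth.Agent.Lib.Modules.TensorSec (app_rs)

variable {X : Scheme.{u}}

section Cycles

variable (K : ChainComplex X.Modules ℕ) {q : ℕ} {U : X.Opens}

theorem iCycles_injective : Function.Injective ((K.iCycles q).app U) := app_injective _ U

theorem d_iCycles (z : Γ(K.cycles q, U)) (j : ℕ) : (K.d q j).app U ((K.iCycles q).app U z) = 0 :=
  congr(($(K.iCycles_d q j)).app U z)

theorem exists_cycle (u : Γ(K.X q, U)) (hu : (K.d q ((ComplexShape.down ℕ).next q)).app U u = 0) :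
    ∃ z : Γ(K.cycles q, U), (K.iCycles q).app U z = u := by
  obtain ⟨k, hk⟩ := ClSub.Sections.exists_kernel_ι_app_eq (K.d q ((ComplexShape.down ℕ).next q)) U u hu
  refine ⟨(K.liftCycles (kernel.ι _) _ rfl (kernel.condition _)).app U k, ?_⟩
  exact (congr(($(K.liftCycles_i (kernel.ι (K.d q ((ComplexShape.down ℕ).next q))) _ rfl
    (kernel.condition _))).app U k)).trans hk

theorem iCycles_toCycles (u : Γ(K.X (q + 1), U)) :
    (K.iCycles q).app U ((K.toCycles (q + 1) q).app U u) = (K.d (q + 1) q).app U u :=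
  congr(($(K.toCycles_i (q + 1) q)).app U u)

theorem π_toCycles (u : Γ(K.X (q + 1), U)) :
    (K.homologyπ q).app U ((K.toCycles (q + 1) q).app U u) = 0 :=
  congr(($(K.toCycles_comp_homologyπ (q + 1) q)).app U u)

theorem exists_boundary (z : Γ(K.cycles q, U)) (hz : (K.homologyπ q).app U z = 0) {p : X} (hp : p ∈ U) :
    ∃ (W : X.Opens) (h : W ≤ U) (u : Γ(K.X (q + 1), W)), p ∈ W ∧
      (K.toCycles (q + 1) q).app W u = rs (K.cycles q) h z :=
  exists_preimage_of_exact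
    (ShortComplex.exact_of_g_is_cokernel (ShortComplex.mk _ _ (K.toCycles_comp_homologyπ (q + 1) q))
      (K.homologyIsCokernel (q + 1) q (by simp))) z hz hp

variable {K} {L : ChainComplex X.Modules ℕ} (φ : L ⟶ K)

theorem iCycles_cyclesMap (z : Γ(L.cycles q, U)) :
    (K.iCycles q).app U ((HomologicalComplex.cyclesMap φ q).app U z) = (φ.f q).app U ((L.iCycles q).app U z) :=
  congr(($(HomologicalComplex.cyclesMap_i φ q)).app U z)

theorem d_comm (i j : ℕ) (u : Γ(L.X i, U)) : (K.d i j).app U ((φ.f i).app U u) = (φ.f j).app U ((L.d i j).app U u) :=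
  congr(($(φ.comm i j)).app U u)

theorem cyclesMap_toCycles (u : Γ(L.X (q + 1), U)) :
    (HomologicalComplex.cyclesMap φ q).app U ((L.toCycles (q + 1) q).app U u) =
      (K.toCycles (q + 1) q).app U ((φ.f (q + 1)).app U u) :=
  iCycles_injective K (by rw [iCycles_cyclesMap, iCycles_toCycles, iCycles_toCycles, d_comm])

theorem cyclesMap_injective [Mono (φ.f q)] :
    Function.Injective ((HomologicalComplex.cyclesMap φ q).app U) := fun a b h =>
  iCycles_injective L (app_injective (φ.f q) U (by rw [← iCycles_cyclesMap, ← iCycles_cyclesMap, h]))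

end Cycles

variable {n : ℕ} {IY : Fin n → X.IdealSheafData} {ID : X.IdealSheafData} (c : Chart IY ID)
  (C : KoszSh.Cx (E IY) (s IY)) (C' : KoszSh.Cx (E' IY ID) (s' IY ID)) (q : ℕ)

/-- The generator of `I_D^{⊗ q}` in a chart. -/
noncomputable def Chart.G : Γ(CohB1.tensorPow (_root_.ClSub.idealMod ID) q, c.U.1) :=
  KoszTw.tprod (_root_.ClSub.idealMod ID) q c.U.1 fun _ => c.x.sec

theorem Chart.isGen_G : IsGen (CohB1.tensorPow (_root_.ClSub.idealMod ID) q) c.U.1 (c.G q) :=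
  isGen_tprodConst c.x.isGen q

/-- `Z_q ⊗ I_D^{⊗ q} → Z_q`. -/
noncomputable abbrev ν : CohB1.tensorMod (C.K.cycles q) (CohB1.tensorPow (_root_.ClSub.idealMod ID) q) ⟶ C.K.cycles q :=
  contract (_root_.ClSub.idealModι ID) (C.K.cycles q) q

theorem Chart.ν_tg (z : Γ(C.K.cycles q, c.U.1)) :
    (ν (ID := ID) C q).app c.U.1 (tg (C.K.cycles q) (c.G q) z) = c.x.f ^ q • z :=
  contract_tg _ _ q c.U.1 c.x.sec c.x.f c.x.ι_sec z

theorem Chart.pow_smul_cycle_injective (k : ℕ) {z : Γ(C.K.cycles q, c.U.1)} (h : c.x.f ^ k • z = 0) : z = 0 := by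
  refine iCycles_injective C.K ?_
  rw [map_zero]
  refine c.pow_smul_injective C q k ?_
  rw [← Scheme.Modules.Hom.app_smul, h, map_zero]

variable (hY : ∀ i, BlowUp.IsEffCartierIdeal (IY i)) (hD : BlowUp.IsEffCartierIdeal ID)

include hY hD in
theorem mono_ν : Mono (ν (ID := ID) C q) :=
  mono_of_local fun U m hm p hp => by
    obtain ⟨c, hpc, hcU⟩ := exists_chart hY hD hp
    refine ⟨c.U.1, hcU, hpc, ?_⟩
    obtain ⟨z, hz⟩ := tg_surjective (c.isGen_G q) (rs _ hcU m)
    have h1 : c.x.f ^ q • z = 0 := by rw [← c.ν_tg C q, hz, app_rs, hm]; exact map_zero _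
    rw [← hz, c.pow_smul_cycle_injective C q q h1, map_zero]

theorem Chart.exists_cyclesMap_eq (z : Γ(C.K.cycles q, c.U.1)) :
    ∃ z' : Γ(C'.K.cycles q, c.U.1),
      (HomologicalComplex.cyclesMap (Φ C C') q).app c.U.1 z' = c.x.f ^ q • z := by
  obtain ⟨u', hu'⟩ := c.exists_Φ_eq C C' q ((C.K.iCycles q).app c.U.1 z)
  obtain ⟨z', hz'⟩ := exists_cycle C'.K u' (c.Φ_injective C C' _ (by
    rw [← d_comm, hu', Scheme.Modules.Hom.app_smul, d_iCycles, smul_zero]))
  refine ⟨z', iCycles_injective C.K ?_⟩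
  rw [iCycles_cyclesMap, hz', hu', Scheme.Modules.Hom.app_smul]

theorem Chart.exists_smul_eq (z' : Γ(C'.K.cycles q, c.U.1)) :
    ∃ z : Γ(C.K.cycles q, c.U.1),
      (HomologicalComplex.cyclesMap (Φ C C') q).app c.U.1 z' = c.x.f ^ q • z := by
  obtain ⟨B, T, hT⟩ := c.exists_bases
  obtain ⟨w, hw⟩ : ∃ w, ((Φ C C').f q).app c.U.1 ((C'.K.iCycles q).app c.U.1 z') = c.x.f ^ q • w := by
    refine Functorial.loc_induction C' c.U (P := fun u => ∃ w, ((Φ C C').f q).app c.U.1 u = c.x.f ^ q • w)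
      ⟨0, by rw [map_zero, smul_zero]⟩ ?_ ?_ ?_ _
    · rintro a b ⟨a', ha⟩ ⟨b', hb⟩
      exact ⟨a' + b', by rw [map_add, ha, hb, smul_add]⟩
    · rintro r a ⟨a', ha⟩
      exact ⟨r • a', by rw [Scheme.Modules.Hom.app_smul, ha, smul_comm]⟩
    · intro e
      refine ⟨(C.loc q c.U).symm (exteriorPower.ιMulti _ q fun k => T.symm (e k)), ?_⟩
      rw [isMap_Φ C C' q c.U, ← map_smul]
      refine congrArg _ ?_
      rw [show (fun j => (jmap IY ID).app c.U.1 (e j)) = fun j => c.x.f • T.symm (e j) from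
        funext fun j => by rw [← hT, LinearEquiv.apply_symm_apply]]
      rw [AlternatingMap.map_smul_univ, Finset.prod_const, Finset.card_univ, Fintype.card_fin]
  obtain ⟨z, hz⟩ := exists_cycle C.K w (c.pow_smul_injective C _ q (by
    rw [← Scheme.Modules.Hom.app_smul, ← hw, d_comm, d_iCycles, map_zero]))
  exact ⟨z, iCycles_injective C.K (by rw [iCycles_cyclesMap, hw, Scheme.Modules.Hom.app_smul, hz])⟩

include hY hD in
theorem cyclesMap_π_eq_zero :
    HomologicalComplex.cyclesMap (Φ C C') q ≫ cokernel.π (ν (ID := ID) C q) = 0 :=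
  hom_eq_zero fun U m p hp => by
    obtain ⟨c, hpc, hcU⟩ := exists_chart hY hD hp
    obtain ⟨z, hz⟩ := c.exists_smul_eq C C' q (rs _ hcU m)
    refine ⟨c.U.1, hcU, hpc, ?_⟩
    show (cokernel.π (ν (ID := ID) C q)).app c.U.1 ((HomologicalComplex.cyclesMap (Φ C C') q).app c.U.1 _) = 0
    rw [hz, ← c.ν_tg C q]
    exact congr(($(cokernel.condition (ν (ID := ID) C q))).app c.U.1 _)

/-- `Z'_q ≅ Z_q ⊗ I_D^{⊗ q}`. -/
noncomputable def Ψ₁ : C'.K.cycles q ⟶ CohB1.tensorMod (C.K.cycles q) (CohB1.tensorPow (_root_.ClSub.idealMod ID) q) :=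
  haveI := mono_ν C q hY hD
  Abelian.monoLift _ _ (cyclesMap_π_eq_zero C C' q hY hD)

theorem Ψ₁_ν : Ψ₁ C C' q hY hD ≫ ν C q = HomologicalComplex.cyclesMap (Φ C C') q :=
  haveI := mono_ν C q hY hD
  Abelian.monoLift_comp _ _ _

theorem Chart.Ψ₁_eq {z' : Γ(C'.K.cycles q, c.U.1)} {z : Γ(C.K.cycles q, c.U.1)}
    (h : (HomologicalComplex.cyclesMap (Φ C C') q).app c.U.1 z' = c.x.f ^ q • z) :
    (Ψ₁ C C' q hY hD).app c.U.1 z' = tg (C.K.cycles q) (c.G q) z := by
  haveI := mono_ν C q hY hD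
  refine app_injective (ν (ID := ID) C q) c.U.1 ?_
  rw [c.ν_tg, ← h]
  exact congr(($(Ψ₁_ν C C' q hY hD)).app c.U.1 z')

theorem isIso_Ψ₁ : IsIso (Ψ₁ C C' q hY hD) := by
  haveI := mono_Φ C C' hY hD q
  haveI : Mono (Ψ₁ C C' q hY hD) := (Modules.Stalk.mono_iff_app_injective _).2 fun U a b h =>
    cyclesMap_injective (Φ C C') (by
      rw [← Ψ₁_ν C C' q hY hD, Scheme.Modules.Hom.comp_app, CategoryTheory.comp_apply,
        CategoryTheory.comp_apply, h])
  haveI : Epi (Ψ₁ C C' q hY hD) := epi_of_local fun U m p hp => by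
    obtain ⟨c, hpc, hcU⟩ := exists_chart hY hD hp
    obtain ⟨z, hz⟩ := tg_surjective (c.isGen_G q) (rs _ hcU m)
    obtain ⟨z', hz'⟩ := c.exists_cyclesMap_eq C C' q z
    exact ⟨c.U.1, hcU, z', hpc, (c.Ψ₁_eq C C' q hY hD hz').trans hz⟩
  exact isIso_of_mono_of_epi _

end Groth.Agent.Lib.KoszulSh.Divisor
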