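import Groth.Agent.Lib.KoszulSh.Algebra

/-!
# Torsion in Koszul homology

If the image of a form is generated by a regular sequence, an element regular modulo the image is regular
on the homology of the Koszul complex.
-/

set_option autoImplicit false
universe u

open ExteriorAlgebra

namespace Groth.Agent.Lib.KoszulSh.TorsionFree

open Algebra (D W)

variable {R : Type u} [CommRing R] {M N : Type u} [AddCommGroup M] [Module R M] [AddCommGroup N] [Module R N]

theorem D_map (f : M →ₗ[R] N) (φ : Module.Dual R N) (z : ExteriorAlgebra R M) :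
    D φ (ExteriorAlgebra.map f z) = ExteriorAlgebra.map f (D (φ ∘ₗ f) z) := by
  induction z using CliffordAlgebra.left_induction with
  | algebraMap r =>
    rw [AlgHom.commutes]
    erw [CliffordAlgebra.contractLeft_algebraMap, CliffordAlgebra.contractLeft_algebraMap]
    exact (map_zero _).symm
  | add a b ha hb => simp only [map_add, ha, hb]
  | ι_mul a m ha =>
    show D φ (ExteriorAlgebra.map f (ι R m * a)) = ExteriorAlgebra.map f (D (φ ∘ₗ f) (ι R m * a))
    rw [map_mul, map_apply_ι, Algebra.D_ι_mul, Algebra.D_ι_mul, ha, map_sub, map_smul, map_mul, map_apply_ι]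
    rfl

theorem map_mem (f : M →ₗ[R] N) {q : ℕ} {z : ExteriorAlgebra R M} (hz : z ∈ ⋀[R]^q M) :
    ExteriorAlgebra.map f z ∈ ⋀[R]^q N := by
  have h : (LinearMap.range (ι R : M →ₗ[R] _)).map (ExteriorAlgebra.map f).toLinearMap ≤
      LinearMap.range (ι R : N →ₗ[R] _) := by
    rintro _ ⟨_, ⟨m, rfl⟩, rfl⟩
    exact ⟨f m, (map_apply_ι f m).symm⟩
  refine pow_le_pow_left' h q ?_
  rw [← Submodule.map_pow]
  exact ⟨z, hz, rfl⟩

variable {n c : ℕ} (b : Module.Basis (Fin n) R M) (φ : Module.Dual R M) (x : R)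

theorem aux (hc : c ≤ n)
    (hreg : ∀ i : Fin n, (i : ℕ) < c → ∀ r : R,
      φ (b i) * r ∈ Ideal.span ((fun i => φ (b i)) '' {k | (k : ℕ) < (i : ℕ)}) →
        r ∈ Ideal.span ((fun i => φ (b i)) '' {k | (k : ℕ) < (i : ℕ)}))
    (hzero : ∀ i : Fin n, c ≤ (i : ℕ) → φ (b i) = 0)
    (hx : ∀ r : R, x * r ∈ Ideal.span ((fun i => φ (b i)) '' {k | (k : ℕ) < c}) →
      r ∈ Ideal.span ((fun i => φ (b i)) '' {k | (k : ℕ) < c})) :
    ∀ j, c ≤ j → j ≤ n → ∀ (q : ℕ) {w y : ExteriorAlgebra R M}, w ∈ (W b j).map (ι R) ^ q →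
      y ∈ (W b j).map (ι R) ^ (q + 1) → D φ w = 0 → D φ y = x • w →
        ∃ y' ∈ (W b j).map (ι R) ^ (q + 1), D φ y' = w := by
  intro j hcj
  induction j, hcj using Nat.le_induction with
  | base =>
    intro _ q w y hw hy hdw hdy
    cases q with
    | zero =>
      rw [pow_zero, Submodule.one_eq_span, Submodule.mem_span_singleton] at hw
      obtain ⟨r, rfl⟩ := hw
      exact (Algebra.mem_ideal_iff b φ).1 (hx r ((Algebra.mem_ideal_iff b φ).2 ⟨y, hy, by rw [hdy, mul_smul]⟩))
    | succ q => exact Algebra.exact_aux b φ c hc hreg q hw hdw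
  | succ j hcj ih =>
    intro hj q w y hw hy hdw hdy
    have hjn : j < n := hj
    set e := b ⟨j, hjn⟩
    have he : φ e = 0 := hzero _ hcj
    let ε : Module.Dual R M := b.coord ⟨j, hjn⟩
    have hε : ∀ a ∈ W b j, ε a = 0 := fun a ha => by
      refine (Submodule.span_le (p := LinearMap.ker ε)).2 ?_ ha
      rintro _ ⟨i, hi, rfl⟩
      have : i ≠ ⟨j, hjn⟩ := fun h => absurd hi (by simp [h])
      simp [ε, this]
    have hεe : ε e = 1 := by simp [ε, e]
    have hDε : ∀ (k : ℕ) {a : ExteriorAlgebra R M}, a ∈ (W b j).map (ι R) ^ k → D ε a = 0 :=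
      fun k a ha => Algebra.D_eq_zero_of_pow hε k ha
    have hDφ : ∀ (k : ℕ) {a : ExteriorAlgebra R M}, a ∈ (W b j).map (ι R) ^ k → D ε (D φ a) = 0 := by
      intro k a ha
      cases k with
      | zero =>
        rw [pow_zero, Submodule.one_eq_span, Submodule.mem_span_singleton] at ha
        obtain ⟨r, rfl⟩ := ha
        rw [map_smul, Algebra.D_one, smul_zero, map_zero]
      | succ k => exact hDε k (Algebra.D_mem_pow φ _ k ha)
    have hdec : ∀ (k : ℕ) (A C : ExteriorAlgebra R M), A ∈ (W b j).map (ι R) ^ k → D ε C = 0 →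
        A + ι R e * C = 0 → A = 0 ∧ C = 0 := by
      intro k A C hA hC h
      have h2 := congrArg (D ε) h
      rw [map_add, map_zero, hDε k hA, Algebra.D_ι_mul, hεe, hC, mul_zero, sub_zero, one_smul, zero_add] at h2
      refine ⟨?_, h2⟩
      rwa [h2, mul_zero, add_zero] at h
    have hD : ∀ C : ExteriorAlgebra R M, D φ (ι R e * C) = -(ι R e * D φ C) := fun C => by
      rw [Algebra.D_ι_mul, he, zero_smul, zero_sub]
    have hmem : ∀ (k : ℕ) {C : ExteriorAlgebra R M}, C ∈ (W b j).map (ι R) ^ k →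
        ι R e * C ∈ (W b (j + 1)).map (ι R) ^ (k + 1) := fun k C hC => by
      rw [pow_succ']
      exact Submodule.mul_mem_mul ⟨e, Submodule.subset_span ⟨⟨j, hjn⟩, Nat.lt_succ_self j, rfl⟩, rfl⟩
        (Algebra.pow_W_le b j _ hC)
    have ih' := ih (Nat.le_of_succ_le hj)
    obtain ⟨a, ha, C, hC, rfl⟩ := Algebra.exists_split (W := W b j) e q (by rwa [← Algebra.W_succ b hjn])
    rw [map_add, hD] at hdy
    cases q with
    | zero =>
      obtain ⟨r, rfl⟩ := Submodule.mem_span_singleton.1 (by rwa [pow_zero, Submodule.one_eq_span] at hC)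
      rw [map_smul, Algebra.D_one, smul_zero, mul_zero, neg_zero, add_zero] at hdy
      obtain ⟨y', hy', hdy'⟩ := ih' 0 (by rwa [pow_zero] at hw ⊢) ha hdw hdy
      exact ⟨y', Algebra.pow_W_le b j _ hy', hdy'⟩
    | succ q =>
      obtain ⟨u, hu, v, hv, rfl⟩ := Algebra.exists_split (W := W b j) e q (by rwa [← Algebra.W_succ b hjn])
      rw [map_add, hD, ← mul_neg] at hdw
      obtain ⟨hdu, hdv⟩ := hdec q _ _ (Algebra.D_mem_pow φ _ q hu)
        (by rw [map_neg, hDφ q hv, neg_zero]) hdw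
      rw [neg_eq_zero] at hdv
      obtain ⟨hu', hv'⟩ := hdec (q + 1) (D φ a - x • u) (-D φ C - x • v)
        (Submodule.sub_mem _ (Algebra.D_mem_pow φ _ (q + 1) ha) (Submodule.smul_mem _ _ hu))
        (by rw [map_sub, map_neg, map_smul, hDφ (q + 1) hC, hDε q hv, neg_zero, smul_zero, sub_zero])
        (by
          rw [mul_sub, mul_neg, mul_smul_comm]
          rw [smul_add] at hdy
          calc D φ a - x • u + (-(ι R e * D φ C) - x • (ι R e * v))
              = D φ a + -(ι R e * D φ C) - (x • u + x • (ι R e * v)) := by abel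
            _ = 0 := sub_eq_zero.2 hdy)
      obtain ⟨a', ha', hda'⟩ := ih' (q + 1) hu ha hdu (sub_eq_zero.1 hu')
      obtain ⟨C', hC', hdC'⟩ := ih' q hv (Submodule.neg_mem _ hC) hdv
        (by rw [map_neg]; exact sub_eq_zero.1 hv')
      refine ⟨a' - ι R e * C', Submodule.sub_mem _ (Algebra.pow_W_le b j _ ha') (hmem _ hC'), ?_⟩
      rw [map_sub, hD, hda', hdC', sub_neg_eq_add]

/-- An element regular modulo the image of `φ` is regular on the homology, if the image is generated by a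
regular sequence. -/
theorem exists_eq {f : Fin c → R} (hf : RingTheory.Sequence.IsWeaklyRegular R (List.ofFn f))
    (B : Module.Basis (Fin n) R M) (hspan : Ideal.span (Set.range f) = LinearMap.range φ)
    (hx : ∀ r : R, x * r ∈ Ideal.span (Set.range f) → r ∈ Ideal.span (Set.range f)) (q : ℕ)
    (w : ↥(⋀[R]^q M)) (hw : D φ (w : ExteriorAlgebra R M) = 0) (y : ↥(⋀[R]^(q + 1) M))
    (hy : Algebra.d φ q y = x • w) : ∃ y', Algebra.d φ q y' = w := by
  classical
  choose g hg using fun k => (hspan ▸ Ideal.subset_span ⟨k, rfl⟩ : f k ∈ LinearMap.range φ)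
  choose a ha using fun i => (Submodule.mem_span_range_iff_exists_fun R).1
    (show φ (B i) ∈ Submodule.span R (Set.range f) by
      change φ (B i) ∈ Ideal.span (Set.range f)
      rw [hspan]
      exact ⟨B i, rfl⟩)
  let G : (Fin c → R) →ₗ[R] M := Fintype.linearCombination R g
  let π : M →ₗ[R] (Fin c → R) := B.constr R a
  let F : (Fin c → R) →ₗ[R] R := Fintype.linearCombination R f
  have hFπ : F ∘ₗ π = φ := B.ext fun i => by
    simp only [LinearMap.comp_apply, π, Module.Basis.constr_basis, F, Fintype.linearCombination_apply]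
    exact ha i
  have hφG : φ ∘ₗ G = F := by
    refine LinearMap.ext fun v => ?_
    simp only [LinearMap.comp_apply, G, F, Fintype.linearCombination_apply, map_sum, map_smul, hg]
  let φ' : Module.Dual R ((Fin c → R) × M) := F.coprod φ
  let θ : ((Fin c → R) × M) ≃ₗ[R] ((Fin c → R) × M) :=
    LinearEquiv.ofLinear
      ((LinearMap.fst R _ _ - π ∘ₗ LinearMap.snd R _ _).prod (LinearMap.snd R _ _))
      ((LinearMap.fst R _ _ + π ∘ₗ LinearMap.snd R _ _).prod (LinearMap.snd R _ _))
      (LinearMap.ext fun v => Prod.ext (by simp) rfl) (LinearMap.ext fun v => Prod.ext (by simp) rfl)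
  have hθ : ∀ v, φ' (θ v) = F v.1 := fun v => by
    show F (v.1 - π v.2) + φ v.2 = F v.1
    rw [map_sub, ← hFπ, LinearMap.comp_apply, sub_add_cancel]
  let b' : Module.Basis (Fin (c + n)) R ((Fin c → R) × M) :=
    (((Pi.basisFun R (Fin c)).prod B).reindex finSumFinEquiv).map θ
  have hl : ∀ k : Fin c, φ' (b' (Fin.castAdd n k)) = f k := fun k => by
    simp [b', hθ, F, Fintype.linearCombination_apply, Pi.single_apply, finSumFinEquiv_symm_apply_castAdd]
  have hr : ∀ i : Fin n, φ' (b' (Fin.natAdd c i)) = 0 := fun i => by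
    simp [b', hθ, F, Fintype.linearCombination_apply, finSumFinEquiv_symm_apply_natAdd]
  have himg : ∀ j, j ≤ c → (fun i => φ' (b' i)) '' {k | (k : ℕ) < j} = f '' {k | (k : ℕ) < j} := by
    intro j hj
    ext t
    simp only [Set.mem_image, Set.mem_setOf_eq]
    constructor
    · rintro ⟨i, hi, rfl⟩
      exact ⟨⟨i, hi.trans_le hj⟩, hi, (hl ⟨i, hi.trans_le hj⟩).symm⟩
    · rintro ⟨k, hk, rfl⟩
      exact ⟨Fin.castAdd n k, hk, hl k⟩
  let i₂ : M →ₗ[R] (Fin c → R) × M := LinearMap.inr R _ _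
  let r₂ : (Fin c → R) × M →ₗ[R] M := G.coprod LinearMap.id
  have h₁ : φ' ∘ₗ i₂ = φ := LinearMap.ext fun v => by simp [φ', i₂]
  have h₂ : φ ∘ₗ r₂ = φ' := by rw [LinearMap.comp_coprod, hφG, LinearMap.comp_id]
  have h₃ : r₂ ∘ₗ i₂ = LinearMap.id := LinearMap.ext fun v => by simp [r₂, i₂]
  have htop : (W b' (c + n)).map (ι R) = LinearMap.range (ι R : ((Fin c → R) × M) →ₗ[R] _) := by
    rw [Algebra.W_top, Submodule.map_top]
  obtain ⟨y', hy', hdy'⟩ := aux b' φ' x (Nat.le_add_right c n)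
    (fun i hi r h => by
      rw [himg _ hi.le] at h ⊢
      refine Algebra.mem_of_mul_mem_of_isWeaklyRegular hf ⟨i, hi⟩ ?_
      rwa [show φ' (b' i) = f ⟨i, hi⟩ from hl ⟨i, hi⟩] at h)
    (fun i hi => by
      obtain ⟨i', rfl⟩ : ∃ i', Fin.natAdd c i' = i :=
        ⟨⟨i - c, by omega⟩, Fin.ext (by simp only [Fin.coe_natAdd]; omega)⟩
      exact hr i')
    (fun r h => by
      rw [himg c le_rfl, show {k : Fin c | (k : ℕ) < c} = Set.univ from Set.eq_univ_of_forall fun k => k.2,
        Set.image_univ] at h ⊢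
      exact hx r h)
    (c + n) (Nat.le_add_right c n) le_rfl q (w := ExteriorAlgebra.map i₂ w) (y := ExteriorAlgebra.map i₂ y)
    (by rw [htop]; exact map_mem i₂ w.2) (by rw [htop]; exact map_mem i₂ y.2)
    (by rw [D_map, h₁, hw, map_zero])
    (by rw [D_map, h₁, show D φ (y : ExteriorAlgebra R M) = x • (w : ExteriorAlgebra R M) from
      congrArg Subtype.val hy, map_smul])
  rw [htop] at hy'
  refine ⟨⟨ExteriorAlgebra.map r₂ y', map_mem r₂ hy'⟩, Subtype.ext ?_⟩
  show D φ (ExteriorAlgebra.map r₂ y') = w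
  rw [D_map, h₂, hdy', ← AlgHom.comp_apply, map_comp_map, h₃, map_id]
  rfl

end Groth.Agent.Lib.KoszulSh.TorsionFree
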