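import Groth.Agent.Lib.KoszulSh.Divisor.Cycles
import Groth.Agent.Lib.KoszulSh.Divisor.TorsionFree
import Groth.Agent.Lib.KoszulSh.Divisor.CMQuot
import Groth.Agent.Lib.RefHull.SubStalk
import Groth.Agent.Lib.JacCrit.FlatRegular
import Groth.Agent.Lib.Cyc.SmoothReg
import Groth.Prelude.Def_RegImm
import Mathlib.RingTheory.Ideal.AssociatedPrime.Basic

/-!
# The equation of `D` is regular on the homology when the intersection is a local complete intersection
-/

set_option autoImplicit false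
set_option linter.style.haveILetI false
universe u

open CategoryTheory CategoryTheory.Limits AlgebraicGeometry Opposite TopologicalSpace

namespace Groth.Agent.Lib.KoszulSh.Divisor

open Groth.Agent.Lib Modules.LocalSections
open Groth.Agent.Lib.TensorMod.Dual (rs rf rs_smul rs_rs rf_rf rs_self rf_self)
open Groth.Agent.Lib.Modules.TensorSec (app_rs)

variable {X : Scheme.{u}} {n : ℕ} {IY : Fin n → X.IdealSheafData} {ID : X.IdealSheafData}

theorem Chart.ideal_iSup (c : Chart IY ID) :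
    (⨆ i, IY i).ideal c.U = Ideal.span (Set.range fun i => (c.y i).f) := by
  rw [Scheme.IdealSheafData.ideal_iSup, iSup_apply, Ideal.span, Submodule.span_range_eq_iSup]
  exact iSup_congr fun i => (c.y i).span

theorem exists_chart_regular (hY : ∀ i, BlowUp.IsEffCartierIdeal (IY i)) (hD : BlowUp.IsEffCartierIdeal ID)
    (hZ : RegImm.IsRegularImmersion RegImm.Kind.regular (⨆ i, IY i).subschemeι) {O : X.Opens} {p : X}
    (hp : p ∈ O) : ∃ (c : Chart IY ID) (l : List Γ(X, c.U.1)), p ∈ c.U.1 ∧ c.U.1 ≤ O ∧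
      RingTheory.Sequence.IsWeaklyRegular Γ(X, c.U.1) l ∧ Ideal.ofList l = (⨆ i, IY i).ideal c.U := by
  set I := ⨆ i, IY i
  by_cases hpZ : p ∈ Set.range I.subschemeι
  · obtain ⟨z, rfl⟩ := hpZ
    obtain ⟨U₀, hz, -, l, hl, hker⟩ := hZ.2 z
    rw [I.ker_subschemeι_app U₀] at hker
    obtain ⟨c₀, hpc, hc⟩ := exists_chart hY hD (show I.subschemeι z ∈ U₀.1 ⊓ O from ⟨hz, hp⟩)
    obtain ⟨g, hgle, hpg⟩ := U₀.2.exists_basicOpen_le (V := c₀.U.1) ⟨I.subschemeι z, hpc⟩ hz
    let W : X.affineOpens := ⟨X.basicOpen g, U₀.2.basicOpen g⟩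
    letI : Algebra Γ(X, U₀.1) Γ(X, W.1) :=
      (X.presheaf.map (homOfLE (X.basicOpen_le g)).op).hom.toAlgebra
    haveI : IsLocalization.Away g Γ(X, W.1) := U₀.2.isLocalization_basicOpen g
    have hreg : RingTheory.Sequence.IsWeaklyRegular Γ(X, W.1) (l.map (algebraMap Γ(X, U₀.1) Γ(X, W.1))) :=
      hl.toIsWeaklyRegular.of_isLocalization _ (Submonoid.powers g)
    have hid : Ideal.ofList (l.map (algebraMap Γ(X, U₀.1) Γ(X, W.1))) = I.ideal W := by
      rw [← Ideal.map_ofList, ← hker]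
      exact I.map_ideal (U := W) (V := U₀) (X.basicOpen_le g)
    exact ⟨c₀.res W hgle, _, hpg, hgle.trans (hc.trans inf_le_right), hreg, hid⟩
  · obtain ⟨c₀, hpc, hc⟩ := exists_chart hY hD hp
    have : ¬ p ∈ X.zeroLocus (I.ideal c₀.U : Set Γ(X, c₀.U.1)) := fun h => by
      refine hpZ ?_
      rw [Scheme.IdealSheafData.range_subschemeι]
      exact ((I.coe_support_inter c₀.U).symm ▸ (⟨h, hpc⟩ :
        p ∈ X.zeroLocus (I.ideal c₀.U : Set Γ(X, c₀.U.1)) ∩ c₀.U.1) : p ∈ (I.support : Set X) ∩ c₀.U.1).1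
    simp only [Scheme.mem_zeroLocus_iff, SetLike.mem_coe, not_forall, not_not] at this
    obtain ⟨g, hg, hpg⟩ := this
    let W : X.affineOpens := ⟨X.basicOpen g, c₀.U.2.basicOpen g⟩
    refine ⟨c₀.res W (X.basicOpen_le g), [1], hpg, (X.basicOpen_le g).trans hc, ?_, ?_⟩
    · exact (RingTheory.Sequence.isWeaklyRegular_singleton_iff _ _).2 (IsSMulRegular.one _)
    · show Ideal.ofList [(1 : Γ(X, W.1))] = I.ideal W
      rw [show Ideal.ofList [(1 : Γ(X, W.1))] = ⊤ by simp]
      refine ((Ideal.eq_top_of_isUnit_mem _ ?_ (X.toRingedSpace.isUnit_res_basicOpen g))).symm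
      show _ ∈ I.ideal W
      rw [← I.map_ideal (U := W) (V := c₀.U) (X.basicOpen_le g)]
      exact Ideal.mem_map_of_mem _ hg

theorem germQuot_dim {U : X.Opens} {q q' : X} (h : q = q') (hq : q ∈ U) (hq' : q' ∈ U) (S : Set Γ(X, U)) :
    ringKrullDim (X.presheaf.stalk q ⧸ Ideal.map (X.presheaf.germ U q hq).hom (Ideal.span S)) =
      ringKrullDim (X.presheaf.stalk q' ⧸ Ideal.map (X.presheaf.germ U q' hq').hom (Ideal.span S)) := by
  subst h; rfl

/-- The equation of `D` is regular modulo the ideal of the intersection. -/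
theorem mem_of_mul_mem [IsLocallyNoetherian X]
    (hCM : ∀ x : X, LocCoh.IsCohenMacaulayLocalRing (X.presheaf.stalk x)) (I : X.IdealSheafData)
    (hZD : ∀ z : ↥I.subscheme, ringKrullDim (I.subscheme.presheaf.stalk z) = 0 →
      I.subschemeι.base z ∉ Set.range ID.subschemeι.base)
    (W : X.affineOpens) (x : Eqn ID W) (l : List Γ(X, W.1))
    (hl : RingTheory.Sequence.IsWeaklyRegular Γ(X, W.1) l) (hI : Ideal.ofList l = I.ideal W)
    (r : Γ(X, W.1)) (hr : x.f * r ∈ I.ideal W) : r ∈ I.ideal W := by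
  by_contra hr0
  haveI : IsNoetherianRing Γ(X, W.1) := IsLocallyNoetherian.component_noetherian W
  rw [← hI] at hr hr0
  set J := Ideal.ofList l
  obtain ⟨P, hPass, hle⟩ := exists_le_isAssociatedPrime_of_isNoetherianRing Γ(X, W.1) (Ideal.Quotient.mk J r)
    (fun h => hr0 (Ideal.Quotient.eq_zero_iff_mem.1 h))
  have hxP : x.f ∈ P := hle (Submodule.mem_colon_singleton.2
    ((Submodule.mem_bot _).2 (Ideal.Quotient.eq_zero_iff_mem.2 hr)))
  haveI := hPass.isPrime
  obtain ⟨m, hm⟩ := (isAssociatedPrime_iff.1 hPass).2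
  obtain ⟨r', rfl⟩ := Ideal.Quotient.mk_surjective m
  have hP : ∀ a, a ∈ P ↔ a * r' ∈ J := fun a => by
    rw [hm, Submodule.mem_colon_singleton, Submodule.mem_bot]
    exact Ideal.Quotient.eq_zero_iff_mem (a := a * r')
  have hJP : J ≤ P := fun a ha => (hP a).2 (Ideal.mul_mem_right _ _ ha)
  let y : PrimeSpectrum Γ(X, W.1) := ⟨P, inferInstance⟩
  have hy : W.2.fromSpec y ∈ W.1 := by
    rw [← SetLike.mem_coe, ← W.2.range_fromSpec]; exact ⟨y, rfl⟩
  letI : Algebra Γ(X, W.1) (X.presheaf.stalk (W.2.fromSpec y)) :=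
    TopCat.Presheaf.algebra_section_stalk X.presheaf (⟨_, hy⟩ : W.1)
  haveI : IsLocalization.AtPrime (X.presheaf.stalk (W.2.fromSpec y)) P := W.2.isLocalization_stalk' y hy
  haveI := hCM (W.2.fromSpec y)
  have hmem : ∀ a, W.2.fromSpec y ∈ X.basicOpen a ↔ a ∉ P := fun a => by
    rw [X.mem_basicOpen a _ hy]
    exact IsLocalization.AtPrime.isUnit_to_map_iff (X.presheaf.stalk (W.2.fromSpec y)) P a
  have hZ : W.2.fromSpec y ∈ Set.range I.subschemeι := by
    rw [Scheme.IdealSheafData.range_subschemeι]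
    have : W.2.fromSpec y ∈ X.zeroLocus (I.ideal W : Set Γ(X, W.1)) ∩ W.1 := by
      refine ⟨(Scheme.mem_zeroLocus_iff _ _ _).2 fun a ha h => (hmem a).1 h (hJP ?_), hy⟩
      rwa [← hI] at ha
    rw [← I.coe_support_inter W] at this
    exact this.1
  obtain ⟨z, hz⟩ := hZ
  have hdim : ringKrullDim (I.subscheme.presheaf.stalk z) = 0 := by
    have h0 := CMQuot.ringKrullDim_localization_eq_zero P (X.presheaf.stalk (W.2.fromSpec y)) l hl hJP r' hP
    have hzW : I.subschemeι z ∈ W.1 := hz ▸ hy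
    have hk := RefHull.SubStalk.ker_stalkMap I (S := {a | a ∈ l}) (hI.symm.trans rfl) z hzW
    rw [← ringKrullDim_eq_of_ringEquiv
      (RingHom.quotientKerEquivOfSurjective (RefHull.SubStalk.stalkMap_surjective I z)), hk,
      ← Ideal.map_span]
    rw [germQuot_dim hz hzW hy {a | a ∈ l}, Ideal.map_span]
    rwa [show Ideal.ofList l = Ideal.span {a | a ∈ l} from rfl, Ideal.map_span] at h0
  refine hZD z hdim ?_
  show I.subschemeι z ∈ Set.range ID.subschemeι
  rw [hz, Scheme.IdealSheafData.range_subschemeι]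
  have : W.2.fromSpec y ∈ X.zeroLocus (ID.ideal W : Set Γ(X, W.1)) ∩ W.1 := by
    refine ⟨?_, hy⟩
    rw [x.span, Scheme.zeroLocus_span, Scheme.mem_zeroLocus_iff]
    rintro _ rfl h
    exact (hmem _).1 h hxP
  rw [← ID.coe_support_inter W] at this
  exact this.1

variable (C : KoszSh.Cx (E IY) (s IY))

theorem Chart.range_secForm (c : Chart IY ID) :
    LinearMap.range (KoszSh.secForm (s IY) c.U.1) = (⨆ i, IY i).ideal c.U := by
  obtain ⟨B, hB⟩ := exists_basis (isFrame_sigma _ (fun i => (c.y i).sec) fun i => (c.y i).isGen)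
  rw [c.ideal_iSup, LinearMap.range_eq_map, ← B.span_eq, Submodule.map_span, ← Set.range_comp]
  congr 1
  refine congrArg Set.range (funext fun i => ?_)
  rw [Function.comp_apply, hB]
  exact (congr(($(Limits.Sigma.ι_desc (fun i => _root_.ClSub.idealModι (IY i)) i)).app c.U.1 (c.y i).sec)).trans
    (c.y i).ι_sec

theorem isSMulRegular_homology [IsLocallyNoetherian X]
    (hCM : ∀ x : X, LocCoh.IsCohenMacaulayLocalRing (X.presheaf.stalk x))
    (hY : ∀ i, BlowUp.IsEffCartierIdeal (IY i)) (hD : BlowUp.IsEffCartierIdeal ID)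
    (hZ : RegImm.IsRegularImmersion RegImm.Kind.regular (⨆ i, IY i).subschemeι)
    (hZD : ∀ z : ↥(⨆ i, IY i).subscheme, ringKrullDim ((⨆ i, IY i).subscheme.presheaf.stalk z) = 0 →
      (⨆ i, IY i).subschemeι.base z ∉ Set.range ID.subschemeι.base)
    (q : ℕ) (U : X.affineOpens) (x : Γ(X, U.1)) (hx : x ∈ nonZeroDivisors Γ(X, U.1))
    (hspan : ID.ideal U = Ideal.span {x}) : IsSMulRegular Γ(C.K.homology q, U.1) x := by
  intro a b hab
  simp only at hab
  suffices ∀ h : Γ(C.K.homology q, U.1), x • h = 0 → h = 0 from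
    sub_eq_zero.1 (this _ (by rw [smul_sub, hab, sub_self]))
  intro h hh
  refine Modules.TensorSec.section_ext _ _ _ fun p hp => ?_
  obtain ⟨V, hV, z, hpV, hz⟩ := exists_preimage (C.K.homologyπ q) h hp
  have hxz : (C.K.homologyπ q).app V (rf hV x • z) = 0 := by
    rw [Scheme.Modules.Hom.app_smul, hz, ← rs_smul, hh]; exact map_zero _
  obtain ⟨V', hV', u, hpV', hu⟩ := exists_boundary C.K _ hxz hpV
  obtain ⟨c, l, hpc, hcV', hl, hI⟩ := exists_chart_regular hY hD hZ hpV'
  let e : Eqn ID c.U := (⟨x, hx, hspan⟩ : Eqn ID U).res c.U (hcV'.trans (hV'.trans hV))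
  refine ⟨c.U.1, hcV'.trans (hV'.trans hV), hpc, ?_⟩
  let z₁ := rs (C.K.cycles q) (hcV'.trans hV') z
  have hd : (C.K.d (q + 1) q).app c.U.1 (rs (C.K.X (q + 1)) hcV' u) =
      e.f • (C.K.iCycles q).app c.U.1 z₁ := by
    rw [← iCycles_toCycles, app_rs (C.K.toCycles (q + 1) q), hu, rs_rs, rs_smul, rf_rf,
      Scheme.Modules.Hom.app_smul]
    rfl
  have hw : Algebra.D (KoszSh.secForm (s IY) c.U.1)
      ((C.loc q c.U ((C.K.iCycles q).app c.U.1 z₁) : ↥(⋀[Γ(X, c.U.1)]^q Γ(E IY, c.U.1))) :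
        ExteriorAlgebra Γ(X, c.U.1) Γ(E IY, c.U.1)) = 0 := by
    cases q with
    | zero =>
      obtain ⟨r, hr⟩ := Submodule.mem_span_singleton.1 (by
        have h1 := (C.loc 0 c.U ((C.K.iCycles 0).app c.U.1 z₁)).2
        change _ ∈ LinearMap.range (ExteriorAlgebra.ι Γ(X, c.U.1) (M := Γ(E IY, c.U.1))) ^ 0 at h1
        rwa [pow_zero, Submodule.one_eq_span] at h1)
      rw [← hr, map_smul, Algebra.D_one, smul_zero]
    | succ q =>
      refine congrArg Subtype.val (?_ : Algebra.d (KoszSh.secForm (s IY) c.U.1) q _ = 0)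
      rw [← Sections.d_app, d_iCycles, map_zero]
  obtain ⟨B, -, -⟩ := c.exists_bases
  obtain ⟨y', hy'⟩ := TorsionFree.exists_eq (KoszSh.secForm (s IY) c.U.1) e.f
    (f := l.get) (by rwa [List.ofFn_get]) B
    (by rw [Set.range_list_get, c.range_secForm]; exact hI)
    (fun r hr => by
      rw [Set.range_list_get] at hr ⊢
      change r ∈ Ideal.ofList l
      change _ ∈ Ideal.ofList l at hr
      rw [hI] at hr ⊢
      exact mem_of_mul_mem hCM (⨆ i, IY i) hZD c.U e l hl hI r hr)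
    q _ hw (C.loc (q + 1) c.U (rs (C.K.X (q + 1)) hcV' u))
    (by rw [← Sections.d_app, hd, map_smul])
  have hz₁ : z₁ = (C.K.toCycles (q + 1) q).app c.U.1 ((C.loc (q + 1) c.U).symm y') := by
    refine iCycles_injective C.K ((C.loc q c.U).injective ?_)
    rw [iCycles_toCycles, Sections.d_app, LinearEquiv.apply_symm_apply, hy']
  rw [← rs_rs _ hV (hcV'.trans hV') h, ← hz, ← app_rs, show rs (C.K.cycles q) (hcV'.trans hV') z = z₁ from rfl,
    hz₁, π_toCycles]
  exact (map_zero _).symm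

end Groth.Agent.Lib.KoszulSh.Divisor
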