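import Groth.Agent.Lib.KoszulSh.Divisor.Cycles
import Groth.Agent.Lib.Modules.UnitKer

/-!
# Homology after twisting by a divisor as a fibre product
-/

set_option autoImplicit false
set_option linter.style.haveILetI false
universe u

open CategoryTheory CategoryTheory.Limits AlgebraicGeometry Opposite TopologicalSpace

namespace Groth.Agent.Lib.KoszulSh.Divisor

open Groth.Agent.Lib Modules.TensorGen Modules.LocalSections Modules.UnitKer
open Groth.Agent.Lib.TensorMod.Dual (rs rf rs_smul rs_rs rf_rf rs_self rf_self)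
open Groth.Agent.Lib.Modules.TensorSec (app_rs)

variable {X : Scheme.{u}} {n : ℕ} {IY : Fin n → X.IdealSheafData} {ID : X.IdealSheafData}
  (C : KoszSh.Cx (E IY) (s IY)) (C' : KoszSh.Cx (E' IY ID) (s' IY ID)) (q : ℕ)

theorem rf_pow {U V : X.Opens} (h : V ≤ U) (a : Γ(X, U)) (k : ℕ) : rf h (a ^ k) = rf h a ^ k :=
  map_pow (X.presheaf.map (homOfLE h).op).hom a k

theorem rs_sub (M : X.Modules) {U V : X.Opens} (h : V ≤ U) (a b : Γ(M, U)) :
    rs M h (a - b) = rs M h a - rs M h b :=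
  map_sub (M.presheaf.map (homOfLE h).op).hom a b

theorem Chart.rs_G (c c' : Chart IY ID) (h : c'.U.1 ≤ c.U.1) (hx : c'.x.f = rf h c.x.f) :
    rs _ h (c.G q) = c'.G q := by
  refine (KoszTw.map_tprod (_root_.ClSub.idealMod ID) q (homOfLE h) _).trans ?_
  refine congrArg (KoszTw.tprod _ q _) (funext fun _ => ClSub.Sections.idealModι_app_injective ID c'.U.1 ?_)
  rw [c'.x.ι_sec, hx]
  exact (app_rs (_root_.ClSub.idealModι ID) h c.x.sec).trans (congrArg (rs _ h) c.x.ι_sec)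

/-- The fibre product. -/
noncomputable abbrev P (ID : X.IdealSheafData) (K : ChainComplex X.Modules ℕ) (q : ℕ) : X.Modules :=
  Limits.pullback ((onD ID).map (K.homologyπ q)) (η ID (K.homology q))

/-- `Z → Z|_D ×_{H|_D} H`. -/
noncomputable def ρ (ID : X.IdealSheafData) (K : ChainComplex X.Modules ℕ) (q : ℕ) : K.cycles q ⟶ P ID K q :=
  Limits.pullback.lift (η ID (K.cycles q)) (K.homologyπ q)
    ((Scheme.Modules.pullbackPushforwardAdjunction ID.subschemeι).unit.naturality (K.homologyπ q)).symm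

theorem ρ_fst {K : ChainComplex X.Modules ℕ} {U : X.Opens} (z : Γ(K.cycles q, U)) :
    (Limits.pullback.fst ((onD ID).map (K.homologyπ q)) (η ID (K.homology q))).app U ((ρ ID K q).app U z) =
      (η ID (K.cycles q)).app U z :=
  congr(($(Limits.pullback.lift_fst (η ID (K.cycles q)) (K.homologyπ q)
    ((Scheme.Modules.pullbackPushforwardAdjunction ID.subschemeι).unit.naturality (K.homologyπ q)).symm)).app U z)

theorem ρ_snd {K : ChainComplex X.Modules ℕ} {U : X.Opens} (z : Γ(K.cycles q, U)) :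
    (Limits.pullback.snd ((onD ID).map (K.homologyπ q)) (η ID (K.homology q))).app U ((ρ ID K q).app U z) =
      (K.homologyπ q).app U z :=
  congr(($(Limits.pullback.lift_snd (η ID (K.cycles q)) (K.homologyπ q)
    ((Scheme.Modules.pullbackPushforwardAdjunction ID.subschemeι).unit.naturality (K.homologyπ q)).symm)).app U z)

theorem η_natural {M N : X.Modules} (φ : M ⟶ N) {U : X.Opens} (m : Γ(M, U)) :
    ((onD ID).map φ).app U ((η ID M).app U m) = (η ID N).app U (φ.app U m) :=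
  congr(($(((Scheme.Modules.pullbackPushforwardAdjunction ID.subschemeι).unit.naturality φ).symm)).app U m)

theorem Chart.η_smul (c : Chart IY ID) {M : X.Modules} (m : Γ(M, c.U.1)) :
    (η ID M).app c.U.1 (c.x.f • m) = 0 :=
  (congrArg (fun r => (η ID M).app c.U.1 (r • m)) (rf_self le_rfl c.x.f).symm).trans
    (app_smul_eq_zero c.x.span le_rfl M m)

theorem Chart.exists_eq_smul (c : Chart IY ID) {M : X.Modules} (m : Γ(M, c.U.1))
    (hm : (η ID M).app c.U.1 m = 0) {p : X} (hp : p ∈ c.U.1) :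
    ∃ (c' : Chart IY ID) (h : c'.U.1 ≤ c.U.1) (z : Γ(M, c'.U.1)), p ∈ c'.U.1 ∧ c'.x.f = rf h c.x.f ∧
      rs M h m = c'.x.f • z := by
  obtain ⟨V, hV, z, hpV, hz⟩ := Modules.UnitKer.exists_eq_smul c.x.span le_rfl m hm hp
  obtain ⟨c', hpc, hcV, hc, hx⟩ := c.exists_res hpV hV
  refine ⟨c', hc, rs M hcV z, hpc, hx, ?_⟩
  rw [← rs_rs M hV hcV m, hz, rs_smul, rf_rf, hx]

variable (hY : ∀ i, BlowUp.IsEffCartierIdeal (IY i)) (hD : BlowUp.IsEffCartierIdeal ID)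

/-- `Z'_q → P ⊗ I_D^{⊗ q}`. -/
noncomputable def Ψ : C'.K.cycles q ⟶
    CohB1.tensorMod (P ID C.K q) (CohB1.tensorPow (_root_.ClSub.idealMod ID) q) :=
  Ψ₁ C C' q hY hD ≫ KoszTw.tensorMap (ρ ID C.K q) (𝟙 _)

theorem Chart.Ψ_eq (c : Chart IY ID) {z' : Γ(C'.K.cycles q, c.U.1)} {z : Γ(C.K.cycles q, c.U.1)}
    (h : (HomologicalComplex.cyclesMap (Φ C C') q).app c.U.1 z' = c.x.f ^ q • z) :
    (Ψ C C' q hY hD).app c.U.1 z' = tg (P ID C.K q) (c.G q) ((ρ ID C.K q).app c.U.1 z) := by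
  show (KoszTw.tensorMap (ρ ID C.K q) (𝟙 _)).app c.U.1 ((Ψ₁ C C' q hY hD).app c.U.1 z') = _
  rw [c.Ψ₁_eq C C' q hY hD h, tg_apply, KoszTw.tensorMap_tmul]
  rfl

theorem Chart.toCycles_eq (c : Chart IY ID) (u' : Γ(C'.K.X (q + 1), c.U.1)) :
    ∃ u : Γ(C.K.X (q + 1), c.U.1), ((Φ C C').f (q + 1)).app c.U.1 u' = c.x.f ^ (q + 1) • u ∧
      (HomologicalComplex.cyclesMap (Φ C C') q).app c.U.1 ((C'.K.toCycles (q + 1) q).app c.U.1 u') =
        c.x.f ^ q • (c.x.f • (C.K.toCycles (q + 1) q).app c.U.1 u) := by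
  obtain ⟨u, hu⟩ : ∃ u, ((Φ C C').f (q + 1)).app c.U.1 u' = c.x.f ^ (q + 1) • u := by
    obtain ⟨B, T, hT⟩ := c.exists_bases
    refine Functorial.loc_induction C' c.U (P := fun u' => ∃ w, ((Φ C C').f (q + 1)).app c.U.1 u' =
      c.x.f ^ (q + 1) • w) ⟨0, by rw [map_zero, smul_zero]⟩ ?_ ?_ ?_ u'
    · rintro a b ⟨a', ha⟩ ⟨b', hb⟩
      exact ⟨a' + b', by rw [map_add, ha, hb, smul_add]⟩
    · rintro r a ⟨a', ha⟩
      exact ⟨r • a', by rw [Scheme.Modules.Hom.app_smul, ha, smul_comm]⟩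
    · intro e
      refine ⟨(C.loc (q + 1) c.U).symm (exteriorPower.ιMulti _ _ fun k => T.symm (e k)), ?_⟩
      rw [isMap_Φ C C' (q + 1) c.U, ← map_smul]
      refine congrArg _ ?_
      rw [show (fun j => (jmap IY ID).app c.U.1 (e j)) = fun j => c.x.f • T.symm (e j) from
        funext fun j => by rw [← hT, LinearEquiv.apply_symm_apply]]
      rw [AlternatingMap.map_smul_univ, Finset.prod_const, Finset.card_univ, Fintype.card_fin]
  refine ⟨u, hu, ?_⟩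
  rw [cyclesMap_toCycles, hu, Scheme.Modules.Hom.app_smul, ← mul_smul, pow_succ]

theorem toCycles_Ψ : C'.K.toCycles (q + 1) q ≫ Ψ C C' q hY hD = 0 :=
  hom_eq_zero fun U m p hp => by
    obtain ⟨c, hpc, hcU⟩ := exists_chart hY hD hp
    obtain ⟨u, -, hu⟩ := c.toCycles_eq C C' q (rs _ hcU m)
    refine ⟨c.U.1, hcU, hpc, ?_⟩
    show (Ψ C C' q hY hD).app c.U.1 ((C'.K.toCycles (q + 1) q).app c.U.1 (rs _ hcU m)) = 0
    rw [c.Ψ_eq C C' q hY hD hu]
    refine (congrArg _ (pullback_ext ?_ ?_ : (ρ ID C.K q).app c.U.1 _ = 0)).trans (map_zero _)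
    · rw [ρ_fst, c.η_smul, map_zero]
    · rw [ρ_snd, Scheme.Modules.Hom.app_smul, π_toCycles, smul_zero, map_zero]

/-- `H'_q → P ⊗ I_D^{⊗ q}`. -/
noncomputable def Θ : C'.K.homology q ⟶
    CohB1.tensorMod (P ID C.K q) (CohB1.tensorPow (_root_.ClSub.idealMod ID) q) :=
  (C'.K.homologyIsCokernel (q + 1) q (by simp)).desc (CokernelCofork.ofπ (Ψ C C' q hY hD) (toCycles_Ψ C C' q hY hD))

theorem π_Θ : C'.K.homologyπ q ≫ Θ C C' q hY hD = Ψ C C' q hY hD :=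
  (C'.K.homologyIsCokernel (q + 1) q (by simp)).fac _ WalkingParallelPair.one

variable (hreg : ∀ (U : X.affineOpens) (x : Γ(X, U.1)), x ∈ nonZeroDivisors Γ(X, U.1) →
  ID.ideal U = Ideal.span {x} → IsSMulRegular Γ(C.K.homology q, U.1) x)

include hreg in
theorem mono_Θ : Mono (Θ C C' q hY hD) :=
  mono_of_local fun U h hh p hp => by
    obtain ⟨W, hW, y, hpW, hy⟩ := exists_preimage (C'.K.homologyπ q) h hp
    obtain ⟨c, hpc, hcW⟩ := exists_chart hY hD hpW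
    obtain ⟨z, hz⟩ := c.exists_smul_eq C C' q (rs _ hcW y)
    have h0 : (ρ ID C.K q).app c.U.1 z = 0 := by
      refine tg_injective (c.isGen_G q) ?_
      rw [← c.Ψ_eq C C' q hY hD hz, map_zero, ← π_Θ C C' q hY hD, Scheme.Modules.Hom.comp_app,
        CategoryTheory.comp_apply, app_rs, hy, rs_rs, app_rs, hh]
      exact map_zero _
    have hη : (η ID (C.K.cycles q)).app c.U.1 z = 0 := by rw [← ρ_fst, h0, map_zero]
    have hπ : (C.K.homologyπ q).app c.U.1 z = 0 := by rw [← ρ_snd (ID := ID), h0, map_zero]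
    obtain ⟨c₁, h₁, z₁, hp₁, hx₁, hz₁⟩ := c.exists_eq_smul z hη hpc
    have hπ₁ : (C.K.homologyπ q).app c₁.U.1 z₁ = 0 := by
      refine hreg c₁.U c₁.x.f c₁.x.nzd c₁.x.span ?_
      show c₁.x.f • _ = c₁.x.f • _
      rw [smul_zero, ← Scheme.Modules.Hom.app_smul, ← hz₁, app_rs, hπ]
      exact map_zero _
    obtain ⟨V, hV, u, hpV, hu⟩ := exists_boundary C.K z₁ hπ₁ hp₁
    obtain ⟨c₂, hp₂, h₂V, h₂, hx₂⟩ := c₁.exists_res hpV hV
    obtain ⟨u', hu'⟩ := c₂.exists_Φ_eq C C' (q + 1) (rs _ h₂V u)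
    refine ⟨c₂.U.1, h₂.trans (h₁.trans (hcW.trans hW)), hp₂, ?_⟩
    have key : rs _ (h₂.trans (h₁.trans hcW)) y = (C'.K.toCycles (q + 1) q).app c₂.U.1 u' := by
      haveI := mono_Φ C C' hY hD q
      refine cyclesMap_injective (Φ C C') ?_
      have e1 : (C.K.toCycles (q + 1) q).app c₂.U.1 (rs _ h₂V u) = rs _ h₂ z₁ := by rw [app_rs, hu, rs_rs]
      have e2 : (HomologicalComplex.cyclesMap (Φ C C') q).app c₂.U.1 (rs _ (h₂.trans (h₁.trans hcW)) y) =
          c₂.x.f ^ q • rs _ (h₂.trans h₁) z := by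
        rw [← rs_rs _ hcW (h₂.trans h₁), app_rs, hz, rs_smul, rf_pow, hx₂, hx₁, rf_rf]
      have e3 : rs (C.K.cycles q) (h₂.trans h₁) z = c₂.x.f • rs _ h₂ z₁ := by
        rw [← rs_rs _ h₁ h₂ z, hz₁, rs_smul, ← hx₂]
      rw [cyclesMap_toCycles, hu', Scheme.Modules.Hom.app_smul, e1, e2, e3, ← mul_smul, ← pow_succ]
    rw [← rs_rs _ hW (h₂.trans (h₁.trans hcW)), ← hy, ← app_rs, key, π_toCycles]

theorem epi_Θ : Epi (Θ C C' q hY hD) :=
  epi_of_local fun U m p hp => by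
    obtain ⟨c, hpc, hcU⟩ := exists_chart hY hD hp
    obtain ⟨w, hw⟩ := tg_surjective (c.isGen_G q) (rs _ hcU m)
    obtain ⟨V, hV, z, hpV, hz⟩ := exists_preimage (η ID (C.K.cycles q))
      ((Limits.pullback.fst ((onD ID).map (C.K.homologyπ q)) (η ID (C.K.homology q))).app c.U.1 w) hpc
    obtain ⟨c₁, hp₁, h₁V, h₁, hx₁⟩ := c.exists_res hpV hV
    obtain ⟨w₁, hw₁⟩ : ∃ a, a = rs (P ID C.K q) h₁ w := ⟨_, rfl⟩
    obtain ⟨z₁, hz₁⟩ : ∃ a, a = rs (C.K.cycles q) h₁V z := ⟨_, rfl⟩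
    have hu : (η ID (C.K.cycles q)).app c₁.U.1 z₁ =
        (Limits.pullback.fst ((onD ID).map (C.K.homologyπ q)) (η ID (C.K.homology q))).app c₁.U.1 w₁ := by
      rw [hz₁, hw₁, app_rs, hz, rs_rs, ← app_rs]
    have hker : (η ID (C.K.homology q)).app c₁.U.1
        ((Limits.pullback.snd ((onD ID).map (C.K.homologyπ q)) (η ID (C.K.homology q))).app c₁.U.1 w₁ -
          (C.K.homologyπ q).app c₁.U.1 z₁) = 0 := by
      rw [map_sub, ← η_natural (ID := ID) (C.K.homologyπ q) z₁, hu, pullback_condition, sub_self]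
    obtain ⟨c₂, h₂, d, hp₂, hx₂, hd⟩ := c₁.exists_eq_smul _ hker hp₁
    obtain ⟨V₃, hV₃, d', hpV₃, hd'⟩ := exists_preimage (C.K.homologyπ q) d hp₂
    obtain ⟨c₃, hp₃, h₃V, h₃, hx₃⟩ := c₂.exists_res hpV₃ hV₃
    let z₃ := rs (C.K.cycles q) (h₃.trans h₂) z₁ + c₃.x.f • rs (C.K.cycles q) h₃V d'
    obtain ⟨z', hz'⟩ := c₃.exists_cyclesMap_eq C C' q z₃
    refine ⟨c₃.U.1, h₃.trans (h₂.trans (h₁.trans hcU)), (C'.K.homologyπ q).app c₃.U.1 z', hp₃, ?_⟩
    rw [← CategoryTheory.comp_apply, ← Scheme.Modules.Hom.comp_app, π_Θ, c₃.Ψ_eq C C' q hY hD hz']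
    have hρ : (ρ ID C.K q).app c₃.U.1 z₃ = rs _ (h₃.trans h₂) w₁ := by
      refine pullback_ext ?_ ?_
      · rw [ρ_fst, map_add, c₃.η_smul, add_zero, app_rs, hu, ← app_rs]
      · have e : (C.K.homologyπ q).app c₃.U.1 (rs (C.K.cycles q) h₃V d') = rs _ h₃ d := by
          rw [app_rs, hd', rs_rs]
        rw [ρ_snd, map_add, Scheme.Modules.Hom.app_smul, e, hx₃, ← rs_smul, ← hd, rs_rs, rs_sub,
          app_rs (C.K.homologyπ q) (h₃.trans h₂) z₁,
          app_rs (Limits.pullback.snd ((onD ID).map (C.K.homologyπ q)) (η ID (C.K.homology q))) (h₃.trans h₂) w₁]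
        abel
    rw [hρ, ← rs_rs _ hcU (h₃.trans (h₂.trans h₁)), ← hw, rs_tg, hw₁, rs_rs]
    rw [c.rs_G q c₃ (h₃.trans (h₂.trans h₁)) (by rw [hx₃, hx₂, hx₁, rf_rf, rf_rf])]

include hY hD hreg in
theorem nonempty_iso : Nonempty (C'.K.homology q ≅
    CohB1.tensorMod (P ID C.K q) (CohB1.tensorPow (_root_.ClSub.idealMod ID) q)) := by
  haveI := mono_Θ C C' q hY hD hreg
  haveI := epi_Θ C C' q hY hD
  haveI := isIso_of_mono_of_epi (Θ C C' q hY hD)
  exact ⟨asIso (Θ C C' q hY hD)⟩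

end Groth.Agent.Lib.KoszulSh.Divisor
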